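import Mathlib
import Cfsg.Agent.Lib.RankOne.Inverted

/-!
# A four-group acting on a subgroup of odd order

The order formula `|X| |C(⟨a,b⟩)|² = |C(a)| |C(b)| |C(ab)|`.
-/

set_option autoImplicit false

open Cfsg

namespace CfsgLib.Perm.FourOdd

variable {M : Type*} [Group M] [Finite M] {a b : M} {X : Subgroup M}

open CfsgLib.RankOne in
theorem card_inverted_factor (ha : a * a = 1) (hb : b * b = 1) (hab : a * b = b * a)
    (hodd : Odd (Nat.card X)) (hna : ∀ x ∈ X, a * x * a⁻¹ ∈ X) (hnb : ∀ x ∈ X, b * x * b⁻¹ ∈ X) :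
    Nat.card (invertedBy X a) =
      Nat.card {x : M // x ∈ invertedBy X a ∧ b * x * b⁻¹ = x} *
        Nat.card {x : M // x ∈ invertedBy X a ∧ b * x * b⁻¹ = x⁻¹} := by
  rw [← Nat.card_prod]
  symm
  set φ : M →* M := (MulAut.conj b).toMonoidHom with hφ
  set ψ : M →* M := (MulAut.conj a).toMonoidHom with hψ
  have hcomm : ∀ x : M, φ (ψ x) = ψ (φ x) := by
    intro x
    change b * (a * x * a⁻¹) * b⁻¹ = a * (b * x * b⁻¹) * a⁻¹
    calc b * (a * x * a⁻¹) * b⁻¹ = (b * a) * x * (b * a)⁻¹ := by group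
      _ = (a * b) * x * (a * b)⁻¹ := by rw [hab]
      _ = _ := by group
  have hφ2 : ∀ x : M, φ (φ x) = x := by
    intro x
    change b * (b * x * b⁻¹) * b⁻¹ = x
    rw [inv_eq_of_mul_eq_one_right hb]
    simp only [← mul_assoc, hb, one_mul]
    rw [mul_assoc, hb, mul_one]
  have hX : ∀ {x : M}, x ∈ X → x ^ Nat.card X = 1 := fun hx => pow_card_mem hx
  have hf : ∀ x y : M, x ∈ invertedBy X a → y ∈ invertedBy X a → x * y * x ∈ invertedBy X a := by
    rintro x y ⟨hx, hxi⟩ ⟨hy, hyi⟩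
    refine ⟨mul_mem (mul_mem hx hy) hx, ?_⟩
    change ψ (x * y * x) = _
    rw [map_mul, map_mul, show ψ x = x⁻¹ from hxi, show ψ y = y⁻¹ from hyi]; group
  refine Nat.card_congr (Equiv.ofBijective
    (fun p : {x : M // x ∈ invertedBy X a ∧ b * x * b⁻¹ = x} ×
      {x : M // x ∈ invertedBy X a ∧ b * x * b⁻¹ = x⁻¹} =>
        (⟨p.1.1 * p.2.1 * p.1.1, hf _ _ p.1.2.1 p.2.2.1⟩ : invertedBy X a)) ⟨?_, ?_⟩)
  · rintro ⟨⟨x, hx, hxb⟩, ⟨y, hy, hyb⟩⟩ ⟨⟨x', hx', hxb'⟩, ⟨y', hy', hyb'⟩⟩ h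
    have h1 : x * y * x = x' * y' * x' := congrArg Subtype.val h
    have h2 : x * y⁻¹ * x = x' * y'⁻¹ * x' := by
      have := congrArg φ h1
      rwa [map_mul, map_mul, map_mul, map_mul, show φ x = x from hxb, show φ x' = x' from hxb',
        show φ y = y⁻¹ from hyb, show φ y' = y'⁻¹ from hyb'] at this
    have hmem : ∀ {u w : M}, u ∈ X → w ∈ X → u * w * u⁻¹ ∈ X := fun hu hw =>
      mul_mem (mul_mem hu hw) (inv_mem hu)
    have h3 : x * y * x⁻¹ = x' * y' * x'⁻¹ := by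
      refine sq_inj_of_odd hodd (hX (hmem hx.1 hy.1)) (hX (hmem hx'.1 hy'.1)) ?_
      calc x * y * x⁻¹ * (x * y * x⁻¹) = (x * y * x) * (x * y⁻¹ * x)⁻¹ := by group
        _ = (x' * y' * x') * (x' * y'⁻¹ * x')⁻¹ := by rw [h1, h2]
        _ = _ := by group
    have h4 : x = x' := by
      refine sq_inj_of_odd hodd (hX hx.1) (hX hx'.1) ?_
      calc x * x = (x * y * x⁻¹)⁻¹ * (x * y * x) := by group
        _ = (x' * y' * x'⁻¹)⁻¹ * (x' * y' * x') := by rw [h3, h1]
        _ = _ := by group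
    subst h4
    simp only [mul_right_inj, mul_left_inj] at h1
    subst h1
    rfl
  · rintro ⟨k, hk, hki⟩
    have hki' : ψ k = k⁻¹ := hki
    set k' := φ k with hk'
    have hk'X : k' ∈ X := hnb k hk
    have hk'i : ψ k' = k'⁻¹ := by rw [hk', ← hcomm, hki', map_inv]
    set Q := k * k'⁻¹ with hQ
    have hQX : Q ∈ X := mul_mem hk (inv_mem hk'X)
    set m := (Nat.card X + 1) / 2 with hm
    set r := Q ^ m with hr
    have hrr : r * r = Q := sq_root_of_odd hodd (hX hQX)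
    have hsr : φ r = r⁻¹ := by
      rw [hr, map_pow, ← inv_pow, hQ, map_mul, map_inv, hk', hφ2, mul_inv_rev, inv_inv]
    have hzr : ψ r = k⁻¹ * r⁻¹ * k := by
      rw [hr, map_pow, hQ, map_mul, map_inv, hki', hk'i, inv_inv]
      have h := conj_pow (i := m) (a := k⁻¹) (b := (k * k'⁻¹)⁻¹)
      rw [inv_inv] at h
      rw [← inv_pow, ← h]
      congr 1
      group
    set e := r⁻¹ * k with he
    have hse : φ e = e := by
      rw [he, map_mul, map_inv, hsr, inv_inv]
      change r * k' = r⁻¹ * k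
      calc r * k' = r⁻¹ * (r * r) * k' := by group
        _ = r⁻¹ * k := by rw [hrr, hQ]; group
    have hze : ψ e = e⁻¹ := by
      rw [he, map_mul, map_inv, hzr, hki']; group
    have heX : e ∈ X := mul_mem (inv_mem (pow_mem hQX _)) hk
    set x := e ^ m with hx
    have hxx : x * x = e := sq_root_of_odd hodd (hX heX)
    have hxX : x ∈ X := pow_mem heX _
    have hxa : ψ x = x⁻¹ := by rw [hx, map_pow, hze, inv_pow]
    have hxb : φ x = x := by rw [hx, map_pow, hse]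
    have hxi : x⁻¹ ∈ invertedBy X a := ⟨inv_mem hxX, by
      change ψ x⁻¹ = _
      rw [map_inv, hxa]⟩
    have hk2 : k' = e * k⁻¹ * e := by
      calc k' = Q⁻¹ * k := by rw [hQ]; group
        _ = (r * r)⁻¹ * k := by rw [hrr]
        _ = e * k⁻¹ * e := by rw [he]; group
    refine ⟨(⟨x, ⟨hxX, hxa⟩, hxb⟩, ⟨x⁻¹ * k * x⁻¹, hf _ _ hxi ⟨hk, hki⟩, ?_⟩),
      Subtype.ext (by simp only; group)⟩
    change φ (x⁻¹ * k * x⁻¹) = _
    rw [map_mul, map_mul, map_inv, hxb, ← hk', hk2, ← hxx]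
    group

omit [Finite M] in
theorem card_commuting_inverted (hab : a * b = b * a) :
    Nat.card (invertedBy (X ⊓ Subgroup.centralizer {b}) a) =
      Nat.card {x : M // x ∈ invertedBy X a ∧ b * x * b⁻¹ = x} :=
  Nat.card_congr (Equiv.subtypeEquivRight fun x => by
    change (x ∈ X ⊓ Subgroup.centralizer {b} ∧ _) ↔ (x ∈ X ∧ _) ∧ _
    rw [Subgroup.mem_inf, Subgroup.mem_centralizer_singleton_iff, mul_inv_eq_iff_eq_mul (b := b)]
    constructor
    · rintro ⟨⟨h1, h2⟩, h3⟩; exact ⟨⟨h1, h3⟩, h2.symm⟩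
    · rintro ⟨⟨h1, h3⟩, h2⟩; exact ⟨⟨h1, h2.symm⟩, h3⟩)

/-- The order formula for a four-group acting on a subgroup of odd order. -/
theorem card_mul_sq_eq (ha : a * a = 1) (hb : b * b = 1) (hab : a * b = b * a)
    (hodd : Odd (Nat.card X)) (hna : ∀ x ∈ X, a * x * a⁻¹ ∈ X) (hnb : ∀ x ∈ X, b * x * b⁻¹ ∈ X) :
    Nat.card X * Nat.card ↥(X ⊓ Subgroup.centralizer {a} ⊓ Subgroup.centralizer {b}) ^ 2 =
      Nat.card ↥(X ⊓ Subgroup.centralizer {a}) * Nat.card ↥(X ⊓ Subgroup.centralizer {b}) *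
        Nat.card ↥(X ⊓ Subgroup.centralizer {a * b}) := by
  have hab2 : a * b * (a * b) = 1 := by
    calc a * b * (a * b) = a * (b * a) * b := by group
      _ = a * (a * b) * b := by rw [hab]
      _ = (a * a) * (b * b) := by group
      _ = 1 := by rw [ha, hb, mul_one]
  have habc : a * (a * b) = a * b * a := by rw [mul_assoc, hab]
  have hnab : ∀ x ∈ X, (a * b) * x * (a * b)⁻¹ ∈ X := fun x hx => by
    have := hna _ (hnb x hx)
    convert this using 1
    group
  have hnI : ∀ {c : M}, a * c = c * a → ∀ x ∈ X ⊓ Subgroup.centralizer {c},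
      a * x * a⁻¹ ∈ X ⊓ Subgroup.centralizer {c} := by
    intro c hc x hx
    rw [Subgroup.mem_inf, Subgroup.mem_centralizer_singleton_iff] at hx ⊢
    refine ⟨hna x hx.1, ?_⟩
    have hac : a⁻¹ * c = c * a⁻¹ := by
      rw [inv_eq_of_mul_eq_one_right ha, hc]
    calc a * x * a⁻¹ * c = a * x * (a⁻¹ * c) := by group
      _ = a * (x * c) * a⁻¹ := by rw [hac]; group
      _ = a * c * x * a⁻¹ := by rw [hx.2]; group
      _ = c * (a * x * a⁻¹) := by rw [hc]; group
  have hinter : X ⊓ Subgroup.centralizer {a * b} ⊓ Subgroup.centralizer {a} =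
      X ⊓ Subgroup.centralizer {a} ⊓ Subgroup.centralizer {b} := by
    ext x
    simp only [Subgroup.mem_inf, Subgroup.mem_centralizer_singleton_iff]
    constructor
    · rintro ⟨⟨hx, h1⟩, h2⟩
      refine ⟨⟨hx, h2⟩, mul_left_cancel (a := a) ?_⟩
      calc a * (x * b) = (a * x) * b := by group
        _ = x * (a * b) := by rw [← h2]; group
        _ = a * (b * x) := by rw [h1]; group
    · rintro ⟨⟨hx, h1⟩, h2⟩
      refine ⟨⟨hx, ?_⟩, h1⟩
      calc x * (a * b) = (x * a) * b := by group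
        _ = a * (x * b) := by rw [h1]; group
        _ = a * b * x := by rw [h2]; group
  have hodd' : ∀ Y : Subgroup M, Y ≤ X → Odd (Nat.card Y) := fun Y hY =>
    hodd.of_dvd_nat (Subgroup.card_dvd_of_le hY)
  have e1 := CfsgLib.RankOne.card_split ha hodd hna
  have e2 := CfsgLib.RankOne.card_split (X := X ⊓ Subgroup.centralizer {b}) ha
    (hodd' _ inf_le_left) (hnI hab)
  have e3 := CfsgLib.RankOne.card_split (X := X ⊓ Subgroup.centralizer {a * b}) ha
    (hodd' _ inf_le_left) (hnI habc)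
  rw [card_commuting_inverted hab, inf_right_comm] at e2
  rw [card_commuting_inverted habc, hinter] at e3
  have e4 := card_inverted_factor ha hb hab hodd hna hnb
  have hswap : Nat.card {x : M // x ∈ invertedBy X a ∧ b * x * b⁻¹ = x⁻¹} =
      Nat.card {x : M // x ∈ invertedBy X a ∧ (a * b) * x * (a * b)⁻¹ = x} := by
    refine Nat.card_congr (Equiv.subtypeEquivRight fun x => and_congr_right fun hx => ?_)
    rw [show a * b * x * (a * b)⁻¹ = a * (b * x * b⁻¹) * a⁻¹ by group]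
    constructor
    · intro h
      rw [h, show a * x⁻¹ * a⁻¹ = (a * x * a⁻¹)⁻¹ by group, hx.2, inv_inv]
    · intro h
      have h2 : b * x * b⁻¹ = a⁻¹ * x * a := by
        calc b * x * b⁻¹ = a⁻¹ * (a * (b * x * b⁻¹) * a⁻¹) * a := by group
          _ = _ := by rw [h]
      rw [h2, ← hx.2, inv_eq_of_mul_eq_one_right ha]
  rw [hswap] at e4
  rw [e1, e2, e3, e4]
  ring

end CfsgLib.Perm.FourOdd
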