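import Mathlib

/-!
# Permutation groups in which a four-point stabiliser has odd order: lifting lemmas
-/

set_option autoImplicit false

open Equiv

namespace CfsgLib.Perm.FourOdd

variable {α : Type*}

/-- Four distinct points. -/
structure Distinct4 (p q r s : α) : Prop where
  pq : p ≠ q
  pr : p ≠ r
  ps : p ≠ s
  qr : q ≠ r
  qs : q ≠ s
  rs : r ≠ s

/-- The pointwise stabiliser in `G` of four points. -/
def stab4 (G : Subgroup (Perm α)) (p q r s : α) : Subgroup (Perm α) where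
  carrier := {g | g ∈ G ∧ g p = p ∧ g q = q ∧ g r = r ∧ g s = s}
  one_mem' := ⟨G.one_mem, rfl, rfl, rfl, rfl⟩
  mul_mem' := fun {x y} hx hy => ⟨G.mul_mem hx.1 hy.1,
    by simp [hy.2.1, hx.2.1], by simp [hy.2.2.1, hx.2.2.1],
    by simp [hy.2.2.2.1, hx.2.2.2.1], by simp [hy.2.2.2.2, hx.2.2.2.2]⟩
  inv_mem' := fun {x} hx => ⟨G.inv_mem hx.1,
    by rw [Perm.inv_def, symm_apply_eq]; exact hx.2.1.symm,
    by rw [Perm.inv_def, symm_apply_eq]; exact hx.2.2.1.symm,
    by rw [Perm.inv_def, symm_apply_eq]; exact hx.2.2.2.1.symm,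
    by rw [Perm.inv_def, symm_apply_eq]; exact hx.2.2.2.2.symm⟩

theorem mem_stab4 {G : Subgroup (Perm α)} {p q r s : α} {g : Perm α} :
    g ∈ stab4 G p q r s ↔ g ∈ G ∧ g p = p ∧ g q = q ∧ g r = r ∧ g s = s := Iff.rfl

/-- The hypothesis: four-point transitivity, and four-point stabilisers of odd order. -/
structure Setup (G : Subgroup (Perm α)) : Prop where
  trans : ∀ {p q r s p' q' r' s' : α}, Distinct4 p q r s → Distinct4 p' q' r' s' →
    ∃ g ∈ G, g p = p' ∧ g q = q' ∧ g r = r' ∧ g s = s'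
  odd : ∀ {p q r s : α}, Distinct4 p q r s → Odd (Nat.card ↥(stab4 G p q r s))

variable [Finite α] {G : Subgroup (Perm α)}

theorem exists_odd_power {g : Perm α} {H : Subgroup (Perm α)} (hH : Odd (Nat.card H))
    (h : g * g ∈ H) : ∃ m : ℕ, Odd m ∧ g ^ m * g ^ m = 1 ∧ ∃ k : ℕ, g ^ m = g * (g * g) ^ k := by
  obtain ⟨k, hk⟩ := hH
  refine ⟨Nat.card H, ⟨k, hk⟩, ?_, k, ?_⟩
  · have h1 : (g * g) ^ Nat.card H = 1 :=
      congrArg Subtype.val (pow_card_eq_one' (x := (⟨g * g, h⟩ : H)))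
    rw [← (Commute.refl g).mul_pow, h1]
  · rw [hk, pow_succ', pow_mul, pow_two]

omit [Finite α] in
theorem pow_mul_apply {g : Perm α} (k : ℕ) {p : α} (hp : (g * g) p = p) :
    (g * (g * g) ^ k) p = g p := by
  rw [Perm.mul_apply, Perm.pow_apply_eq_self_of_apply_eq_self hp]

/-- An involution of `G` fixing four distinct points is trivial. -/
theorem Setup.eq_one (S : Setup G) {t : Perm α} {p q r s : α} (hd : Distinct4 p q r s)
    (ht : t ∈ G) (ht2 : t * t = 1) (hp : t p = p) (hq : t q = q) (hr : t r = r) (hs : t s = s) :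
    t = 1 := by
  have hmem : t ∈ stab4 G p q r s := ⟨ht, hp, hq, hr, hs⟩
  obtain ⟨k, hk⟩ := S.odd hd
  have h1 : t ^ Nat.card ↥(stab4 G p q r s) = 1 :=
    congrArg Subtype.val (pow_card_eq_one' (x := (⟨t, hmem⟩ : stab4 G p q r s)))
  rwa [hk, pow_succ, pow_mul, pow_two, ht2, one_pow, one_mul] at h1

/-- An element whose square fixes four points gives an involution agreeing with it there. -/
theorem Setup.exists_involution (S : Setup G) {g : Perm α} {p q r s : α}
    (hd : Distinct4 p q r s) (hg : g ∈ G) (hp : g (g p) = p) (hq : g (g q) = q)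
    (hr : g (g r) = r) (hs : g (g s) = s) :
    ∃ t ∈ G, t * t = 1 ∧ t p = g p ∧ t q = g q ∧ t r = g r ∧ t s = g s ∧
      ∀ a : Perm α, g * a = a * g → t * a = a * t := by
  have hmem : g * g ∈ stab4 G p q r s := ⟨G.mul_mem hg hg, hp, hq, hr, hs⟩
  obtain ⟨m, -, h2, k, hk⟩ := exists_odd_power (S.odd hd) hmem
  refine ⟨g ^ m, G.pow_mem hg m, h2, ?_, ?_, ?_, ?_, fun a ha => Commute.pow_left ha m⟩
  all_goals rw [hk]
  · exact pow_mul_apply k hp
  · exact pow_mul_apply k hq
  · exact pow_mul_apply k hr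
  · exact pow_mul_apply k hs

/-- Two involutions agreeing on four points are conjugate by an element fixing those points,
which commutes with whatever both of them commute with. -/
theorem Setup.conj_involution (S : Setup G) {t t' : Perm α} {p q r s : α}
    (hd : Distinct4 p q r s) (ht : t ∈ G) (ht' : t' ∈ G) (h2 : t * t = 1) (h2' : t' * t' = 1)
    (hp : t p = t' p) (hq : t q = t' q) (hr : t r = t' r) (hs : t s = t' s) :
    ∃ h ∈ stab4 G p q r s, h * t * h⁻¹ = t' ∧
      ∀ a : Perm α, t * a = a * t → t' * a = a * t' → h * a = a * h := by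
  have app : ∀ {f : Perm α}, f * f = 1 → ∀ x, f (f x) = x := fun hf x => by
    rw [← Perm.mul_apply, hf, Perm.one_apply]
  have hmem : t * t' ∈ stab4 G p q r s := by
    refine ⟨G.mul_mem ht ht', ?_, ?_, ?_, ?_⟩ <;> rw [Perm.mul_apply]
    · rw [← hp, app h2]
    · rw [← hq, app h2]
    · rw [← hr, app h2]
    · rw [← hs, app h2]
  obtain ⟨m, hm⟩ := S.odd hd
  refine ⟨(t * t') ^ m, pow_mem hmem m, ?_, fun a h h' => ?_⟩
  · have hx : (t * t') ^ (2 * m + 1) = 1 := hm ▸
      congrArg Subtype.val (pow_card_eq_one' (x := (⟨t * t', hmem⟩ : stab4 G p q r s)))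
    have hti : t⁻¹ = t := inv_eq_of_mul_eq_one_right h2
    have hwi : t'⁻¹ = t' := inv_eq_of_mul_eq_one_right h2'
    have hconj : t * ((t * t') ^ m)⁻¹ * t = (t * t') ^ m := by
      rw [← inv_pow]
      have : t * (t * t')⁻¹ * t⁻¹ = t * t' := by
        rw [mul_inv_rev, hwi, hti, ← mul_assoc, mul_assoc (t * t'), h2, mul_one]
      calc t * ((t * t')⁻¹) ^ m * t = (t * (t * t')⁻¹ * t⁻¹) ^ m := by rw [conj_pow, hti]
        _ = _ := by rw [this]
    calc (t * t') ^ m * t * ((t * t') ^ m)⁻¹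
        = (t * t') ^ m * (t * ((t * t') ^ m)⁻¹ * t) * t := by
          simp only [mul_assoc, h2, mul_one]
      _ = (t * t') ^ (2 * m) * t := by rw [hconj, ← pow_add, two_mul]
      _ = (t * t')⁻¹ * t := by
          rw [eq_inv_of_mul_eq_one_left (a := (t * t') ^ (2 * m)) (by rw [← pow_succ]; exact hx)]
      _ = t' := by rw [mul_inv_rev, hwi, hti, mul_assoc, h2, mul_one]
  · exact Commute.pow_left (Commute.mul_left (show Commute t a from h) (show Commute t' a from h')) m

/-- An element carrying the involution `a` to an involution agreeing with `b` on four points can be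
corrected by an element fixing these points so as to carry `a` to `b`. -/
theorem Setup.adjust (S : Setup G) {g a b : Perm α} {p q r s : α} (hd : Distinct4 p q r s)
    (hg : g ∈ G) (ha : a ∈ G) (hb : b ∈ G) (ha2 : a * a = 1) (hb2 : b * b = 1)
    (hp : (g * a * g⁻¹) p = b p) (hq : (g * a * g⁻¹) q = b q)
    (hr : (g * a * g⁻¹) r = b r) (hs : (g * a * g⁻¹) s = b s) :
    ∃ g' ∈ G, g' * a * g'⁻¹ = b ∧ ∀ x : α, g x ∈ ({p, q, r, s} : Set α) → g' x = g x := by
  have h2 : g * a * g⁻¹ * (g * a * g⁻¹) = 1 := by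
    rw [show g * a * g⁻¹ * (g * a * g⁻¹) = g * (a * a) * g⁻¹ by group, ha2, mul_one,
      mul_inv_cancel]
  obtain ⟨h, ⟨hG, h1, h2', h3, h4⟩, hc, -⟩ := S.conj_involution hd
    (G.mul_mem (G.mul_mem hg ha) (G.inv_mem hg)) hb h2 hb2 hp hq hr hs
  refine ⟨h * g, G.mul_mem hG hg, ?_, fun x hx => ?_⟩
  · rw [← hc]; group
  · rw [Perm.mul_apply]
    rcases hx with hx | hx | hx | hx <;> rw [hx] <;> assumption

omit [Finite α] in
/-- An element permuting four points normalises their pointwise stabiliser. -/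
theorem conj_mem_stab4 {g h : Perm α} {p q r s : α} (hg : g ∈ G)
    (hp : g p ∈ ({p, q, r, s} : Set α)) (hq : g q ∈ ({p, q, r, s} : Set α))
    (hr : g r ∈ ({p, q, r, s} : Set α)) (hs : g s ∈ ({p, q, r, s} : Set α))
    (hh : h ∈ stab4 G p q r s) : g⁻¹ * h * g ∈ stab4 G p q r s := by
  have key : ∀ x, g x ∈ ({p, q, r, s} : Set α) → (g⁻¹ * h * g) x = x := by
    intro x hx
    rw [Perm.mul_apply, Perm.mul_apply, Perm.inv_def, symm_apply_eq]
    rcases hx with e | e | e | e <;> rw [e]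
    exacts [hh.2.1, hh.2.2.1, hh.2.2.2.1, hh.2.2.2.2]
  exact ⟨G.mul_mem (G.mul_mem (G.inv_mem hg) hh.1) hg, key p hp, key q hq, key r hr, key s hs⟩

end CfsgLib.Perm.FourOdd
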