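import Mathlib
import Cfsg.Agent.Lib.Perm.FourOdd.Lifts

/-!
# Orbit counts, and the centraliser of an involution on quadruples
-/

set_option autoImplicit false

open Equiv

namespace CfsgLib.Perm.FourOdd

/-- The orbit-stabiliser count for a subgroup, relative to a homomorphism into permutations. -/
theorem card_orbit_mul {M β : Type*} [Group M] [Finite M] (ρ : M →* Perm β) (K L : Subgroup M)
    (b : β) (S : Set β) (hS : ∀ x, x ∈ S ↔ ∃ k ∈ K, ρ k b = x)
    (hL : ∀ k, k ∈ L ↔ k ∈ K ∧ ρ k b = b) :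
    Nat.card S * Nat.card L = Nat.card K := by
  letI : MulAction K β := MulAction.compHom β (ρ.comp K.subtype)
  have e1 : S = MulAction.orbit K b := by
    ext x
    rw [hS, MulAction.mem_orbit_iff]
    exact ⟨fun ⟨k, hk, e⟩ => ⟨⟨k, hk⟩, e⟩, fun ⟨k, e⟩ => ⟨k, k.2, e⟩⟩
  have e2 : Nat.card L = Nat.card (MulAction.stabilizer K b) :=
    Nat.card_congr
      { toFun := fun l => ⟨⟨l, ((hL l).1 l.2).1⟩, ((hL l).1 l.2).2⟩
        invFun := fun k => ⟨k.1, (hL k.1).2 ⟨k.1.2, k.2⟩⟩
        left_inv := fun l => rfl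
        right_inv := fun k => rfl }
  rw [← Subgroup.card_mul_index (MulAction.stabilizer K b), MulAction.index_stabilizer,
    e2, e1, mul_comm, Nat.card_coe_set_eq]

/-- Conjugation, as a homomorphism into permutations. -/
def conjHom (M : Type*) [Group M] : M →* Perm M :=
  (MulAction.toPermHom (MulAut M) M).comp MulAut.conj

theorem conjHom_apply {M : Type*} [Group M] (g x : M) : conjHom M g x = g * x * g⁻¹ := rfl

variable {α : Type*}

/-- `p` and `q` lie in two different two-cycles of `a`. -/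
structure Quad (a : Perm α) (p q : α) : Prop where
  mp : a p ≠ p
  mq : a q ≠ q
  ne : q ≠ p
  ne' : q ≠ a p

theorem app_app {a : Perm α} (h : a * a = 1) (x : α) : a (a x) = x := by
  rw [← Perm.mul_apply, h, Perm.one_apply]

theorem comm_app {a g : Perm α} (h : g * a = a * g) (x : α) : g (a x) = a (g x) :=
  congrArg (fun f : Perm α => f x) h

theorem Quad.distinct {a : Perm α} (ha : a * a = 1) {p q : α} (h : Quad a p q) :
    Distinct4 p (a p) q (a q) :=
  ⟨fun e => h.mp e.symm, fun e => h.ne e.symm,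
    fun e => h.ne' (by rw [e, app_app ha]), fun e => h.ne' e.symm,
    fun e => h.ne (a.injective e).symm, fun e => h.mq e.symm⟩

theorem Quad.symm {a : Perm α} (ha : a * a = 1) {p q : α} (h : Quad a p q) : Quad a q p :=
  ⟨h.mq, h.mp, h.ne.symm, fun e => h.ne' (by rw [e, app_app ha])⟩

theorem Distinct4.perm₁ {p q r s : α} (h : Distinct4 p q r s) : Distinct4 p r q s :=
  ⟨h.pr, h.pq, h.ps, h.qr.symm, h.rs, h.qs⟩

theorem Distinct4.perm₂ {p q r s : α} (h : Distinct4 p q r s) : Distinct4 r s p q :=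
  ⟨h.rs, h.pr.symm, h.qr.symm, h.ps.symm, h.qs.symm, h.pq⟩

theorem Distinct4.perm₃ {p q r s : α} (h : Distinct4 p q r s) : Distinct4 p s r q :=
  ⟨h.ps, h.pr, h.pq, h.rs.symm, h.qs.symm, h.qr.symm⟩

variable [Finite α] {G : Subgroup (Perm α)}

/-- The centraliser of `a` is transitive on its quadruples. -/
theorem Setup.trans_quad (S : Setup G) {a : Perm α} (ha : a ∈ G) (ha2 : a * a = 1) {p q p' q' : α}
    (h : Quad a p q) (h' : Quad a p' q') :
    ∃ g ∈ G, g * a = a * g ∧ g p = p' ∧ g q = q' := by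
  obtain ⟨g, hg, e1, e2, e3, e4⟩ := S.trans (h.distinct ha2) (h'.distinct ha2)
  have key : ∀ {x y : α}, g x = y → g (a x) = a y → (g * a * g⁻¹) y = a y := by
    intro x y hx hax
    rw [Perm.mul_apply, Perm.mul_apply, show g⁻¹ y = x by
      rw [Perm.inv_def, symm_apply_eq]; exact hx.symm, hax]
  have k1 := key e1 e2
  have k2 := key (x := a p) (y := a p') e2 (by rw [app_app ha2, app_app ha2]; exact e1)
  have k3 := key e3 e4
  have k4 := key (x := a q) (y := a q') e4 (by rw [app_app ha2, app_app ha2]; exact e3)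
  obtain ⟨g', hg', hc, himg⟩ := S.adjust (h'.distinct ha2) hg ha ha ha2 ha2 k1 k2 k3 k4
  refine ⟨g', hg', ?_, ?_, ?_⟩
  · calc g' * a = g' * a * g'⁻¹ * g' := by group
      _ = a * g' := by rw [hc]
  · rw [himg p (by rw [e1]; simp), e1]
  · rw [himg q (by rw [e3]; simp), e3]

/-- If `g` permutes four points, the centralisers in their stabiliser of conjugate elements have
equal orders. -/
theorem card_centralizer_conj {g x y : Perm α} {p q r s : α} (hg : g ∈ G)
    (hp : g p ∈ ({p, q, r, s} : Set α)) (hq : g q ∈ ({p, q, r, s} : Set α))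
    (hr : g r ∈ ({p, q, r, s} : Set α)) (hs : g s ∈ ({p, q, r, s} : Set α))
    (hxy : g * x * g⁻¹ = y) :
    Nat.card ↥(stab4 G p q r s ⊓ Subgroup.centralizer {x}) =
      Nat.card ↥(stab4 G p q r s ⊓ Subgroup.centralizer {y}) := by
  set H := stab4 G p q r s with hH
  set φ : Perm α →* Perm α := (MulAut.conj g⁻¹).toMonoidHom with hφ
  have hinj : Function.Injective φ := (MulAut.conj g⁻¹).injective
  have hmap : H.map φ = H := by
    refine Subgroup.eq_of_le_of_card_ge ?_ (le_of_eq ?_)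
    · rintro _ ⟨h, hh, rfl⟩
      have := conj_mem_stab4 hg hp hq hr hs hh
      simpa [hφ] using this
    · exact (Nat.card_congr (Subgroup.equivMapOfInjective H φ hinj).toEquiv)
  have hmap' : (H ⊓ Subgroup.centralizer {y}).map φ = H ⊓ Subgroup.centralizer {x} := by
    ext z
    simp only [Subgroup.mem_map, Subgroup.mem_inf, Subgroup.mem_centralizer_singleton_iff]
    constructor
    · rintro ⟨h, ⟨hh, hc⟩, rfl⟩
      refine ⟨hmap ▸ ⟨h, hh, rfl⟩, ?_⟩
      change g⁻¹ * h * g⁻¹⁻¹ * x = x * (g⁻¹ * h * g⁻¹⁻¹)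
      calc g⁻¹ * h * g⁻¹⁻¹ * x = g⁻¹ * (h * (g * x * g⁻¹)) * g := by group
        _ = g⁻¹ * ((g * x * g⁻¹) * h) * g := by rw [hxy, hc]
        _ = _ := by group
    · rintro ⟨hz, hc⟩
      obtain ⟨h, hh, rfl⟩ : z ∈ H.map φ := hmap.symm ▸ hz
      refine ⟨h, ⟨hh, ?_⟩, rfl⟩
      have hc' : g⁻¹ * h * g⁻¹⁻¹ * x = x * (g⁻¹ * h * g⁻¹⁻¹) := hc
      rw [← hxy]
      calc h * (g * x * g⁻¹) = g * (g⁻¹ * h * g⁻¹⁻¹ * x) * g⁻¹ := by group
        _ = g * (x * (g⁻¹ * h * g⁻¹⁻¹)) * g⁻¹ := by rw [hc']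
        _ = _ := by group
  rw [← hmap', ← Nat.card_congr (Subgroup.equivMapOfInjective _ φ hinj).toEquiv]

end CfsgLib.Perm.FourOdd
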