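import Mathlib
import Cfsg.Agent.Lib.Perm.FourOdd.Tools
import Cfsg.Agent.Lib.Perm.FourOdd.FourGroup

/-!
# The double count for an involution with two fixed points
-/

set_option autoImplicit false

open Equiv Finset

namespace CfsgLib.Perm.FourOdd

variable {α : Type*} [Fintype α] [DecidableEq α] {G : Subgroup (Perm α)}

/-- Involutions commuting with `a` that fix one of its two-cycles pointwise and flip another. -/
structure IsU (G : Subgroup (Perm α)) (a t : Perm α) : Prop where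
  mem : t ∈ G
  sq : t * t = 1
  comm : t * a = a * t
  hfix : ∃ j, a j ≠ j ∧ t j = j
  hflip : ∃ i, a i ≠ i ∧ t i = a i

theorem mul_self_comm {a t : Perm α} (ha2 : a * a = 1) (h2 : t * t = 1) (hc : t * a = a * t) :
    a * t * (a * t) = 1 := by
  calc a * t * (a * t) = a * (t * a) * t := by group
    _ = (a * a) * (t * t) := by rw [hc]; group
    _ = 1 := by rw [ha2, h2, mul_one]

theorem IsU.conj {a t g : Perm α} (h : IsU G a t) (hg : g ∈ G) (hc : g * a = a * g) :
    IsU G a (g * t * g⁻¹) := by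
  have hga : g⁻¹ * a = a * g⁻¹ := (Commute.inv_left (show Commute g a from hc))
  refine ⟨G.mul_mem (G.mul_mem hg h.mem) (G.inv_mem hg), ?_, ?_, ?_, ?_⟩
  · rw [show g * t * g⁻¹ * (g * t * g⁻¹) = g * (t * t) * g⁻¹ by group, h.sq, mul_one, mul_inv_cancel]
  · calc g * t * g⁻¹ * a = g * t * (g⁻¹ * a) := by group
      _ = g * (t * a) * g⁻¹ := by rw [hga]; group
      _ = (g * a) * t * g⁻¹ := by rw [h.comm]; group
      _ = a * (g * t * g⁻¹) := by rw [hc]; group
  · obtain ⟨j, hj, ej⟩ := h.hfix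
    exact ⟨g j, by rw [← comm_app hc]; exact fun e => hj (g.injective e), by simp [ej]⟩
  · obtain ⟨i, hi, ei⟩ := h.hflip
    exact ⟨g i, by rw [← comm_app hc]; exact fun e => hi (g.injective e),
      by simp [ei, comm_app hc]⟩

theorem IsU.fix_eq (S : Setup G) {a t : Perm α} (ha2 : a * a = 1) (h : IsU G a t) {j k : α}
    (hj : a j ≠ j) (ej : t j = j) (hk : a k ≠ k) (ek : t k = k) : k = j ∨ k = a j := by
  by_contra hne
  push Not at hne
  obtain ⟨i, hi, ei⟩ := h.hflip
  have h1 : t = 1 := S.eq_one (Quad.distinct ha2 ⟨hj, hk, hne.1, hne.2⟩) h.mem h.sq ej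
    (by rw [comm_app h.comm, ej]) ek (by rw [comm_app h.comm, ek])
  rw [h1, Perm.one_apply] at ei
  exact hi ei.symm

theorem IsU.flip_eq (S : Setup G) {a t : Perm α} (ha : a ∈ G) (ha2 : a * a = 1) (h : IsU G a t)
    {i k : α} (hi : a i ≠ i) (ei : t i = a i) (hk : a k ≠ k) (ek : t k = a k) :
    k = i ∨ k = a i := by
  by_contra hne
  push Not at hne
  obtain ⟨j, hj, ej⟩ := h.hfix
  have e : ∀ x, t x = a x → (a * t) x = x := fun x ex => by rw [Perm.mul_apply, ex, app_app ha2]
  have h1 : a * t = 1 := S.eq_one (Quad.distinct ha2 ⟨hi, hk, hne.1, hne.2⟩) (G.mul_mem ha h.mem)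
    (mul_self_comm ha2 h.sq h.comm) (e i ei) (e (a i) (by rw [comm_app h.comm, ei]))
    (e k ek) (e (a k) (by rw [comm_app h.comm, ek]))
  have h2 : (a * t) j = j := by rw [h1, Perm.one_apply]
  rw [Perm.mul_apply, ej] at h2
  exact hj h2

/-- The involutions commuting with `a` with prescribed images of `p` and `q`. -/
def liftSet (G : Subgroup (Perm α)) (a : Perm α) (p q x y : α) : Set (Perm α) :=
  {t | t ∈ G ∧ t * t = 1 ∧ t * a = a * t ∧ t p = x ∧ t q = y}

theorem exists_lift (S : Setup G) {a : Perm α} (ha : a ∈ G) (ha2 : a * a = 1) {p q x y : α}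
    (h : Quad a p q) (h' : Quad a x y)
    (hinv : ∀ g : Perm α, g * a = a * g → g p = x → g q = y → g (g p) = p ∧ g (g q) = q) :
    (liftSet G a p q x y).Nonempty := by
  obtain ⟨g, hg, hc, e1, e2⟩ := S.trans_quad ha ha2 h h'
  obtain ⟨i1, i2⟩ := hinv g hc e1 e2
  obtain ⟨t, ht, t2, tp, -, tq, -, tc⟩ := S.exists_involution (h.distinct ha2) hg i1
    (by rw [comm_app hc, comm_app hc, i1]) i2 (by rw [comm_app hc, comm_app hc, i2])
  exact ⟨t, ht, t2, tc a hc, tp.trans e1, tq.trans e2⟩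

theorem card_liftSet_mul (S : Setup G) {a v : Perm α} (ha2 : a * a = 1) {p q x y : α}
    (h : Quad a p q) (hx : x ∈ ({p, a p, q, a q} : Set α)) (hy : y ∈ ({p, a p, q, a q} : Set α))
    (hv : v ∈ liftSet G a p q x y) :
    Nat.card (liftSet G a p q x y) *
      Nat.card ↥(stab4 G p (a p) q (a q) ⊓ Subgroup.centralizer {a} ⊓ Subgroup.centralizer {v}) =
    Nat.card ↥(stab4 G p (a p) q (a q) ⊓ Subgroup.centralizer {a}) := by
  refine card_orbit_mul (conjHom (Perm α)) _ _ v _ (fun t => ⟨?_, ?_⟩) (fun k => ?_)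
  · rintro ⟨ht, t2, tc, tp, tq⟩
    obtain ⟨hvG, v2, vc, vp, vq⟩ := hv
    obtain ⟨k, hk, hconj, hkc⟩ := S.conj_involution (h.distinct ha2) hvG ht v2 t2
      (vp.trans tp.symm) (by rw [comm_app vc, comm_app tc, vp, tp]) (vq.trans tq.symm)
      (by rw [comm_app vc, comm_app tc, vq, tq])
    exact ⟨k, ⟨hk, Subgroup.mem_centralizer_singleton_iff.2 (hkc a vc tc)⟩, hconj⟩
  · rintro ⟨k, ⟨hk, hkc⟩, rfl⟩
    obtain ⟨hvG, v2, vc, vp, vq⟩ := hv
    have hkc' : k * a = a * k := Subgroup.mem_centralizer_singleton_iff.1 hkc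
    have hka : k⁻¹ * a = a * k⁻¹ := Commute.inv_left (show Commute k a from hkc')
    obtain ⟨hkG, k1, k2, k3, k4⟩ := hk
    have fx : ∀ z, z ∈ ({p, a p, q, a q} : Set α) → k z = z := by
      rintro z (rfl | rfl | rfl | rfl) <;> assumption
    rw [conjHom_apply]
    refine ⟨G.mul_mem (G.mul_mem hkG hvG) (G.inv_mem hkG), ?_, ?_, ?_, ?_⟩
    · rw [show k * v * k⁻¹ * (k * v * k⁻¹) = k * (v * v) * k⁻¹ by group, v2, mul_one, mul_inv_cancel]
    · calc k * v * k⁻¹ * a = k * v * (k⁻¹ * a) := by group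
        _ = k * (v * a) * k⁻¹ := by rw [hka]; group
        _ = (k * a) * v * k⁻¹ := by rw [vc]; group
        _ = a * (k * v * k⁻¹) := by rw [hkc']; group
    · rw [Perm.mul_apply, Perm.mul_apply, show k⁻¹ p = p by
        rw [Perm.inv_def, symm_apply_eq]; exact k1.symm, vp, fx x hx]
    · rw [Perm.mul_apply, Perm.mul_apply, show k⁻¹ q = q by
        rw [Perm.inv_def, symm_apply_eq]; exact k3.symm, vq, fx y hy]
  · rw [Subgroup.mem_inf, conjHom_apply, mul_inv_eq_iff_eq_mul,
      Subgroup.mem_centralizer_singleton_iff]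

/-- Conjugation by an element of the centraliser of `a` transports lift sets. -/
theorem card_liftSet_conj {a g : Perm α} {p q x y : α} (hg : g ∈ G) (hc : g * a = a * g) :
    Nat.card (liftSet G a (g p) (g q) (g x) (g y)) = Nat.card (liftSet G a p q x y) := by
  refine (Nat.card_congr (Equiv.subtypeEquiv (MulAut.conj g).toEquiv fun t => ?_)).symm
  change t ∈ liftSet G a p q x y ↔ g * t * g⁻¹ ∈ liftSet G a (g p) (g q) (g x) (g y)
  have hC : Commute g a := hc
  constructor
  · rintro ⟨h1, h2, h3, h4, h5⟩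
    refine ⟨G.mul_mem (G.mul_mem hg h1) (G.inv_mem hg), ?_, ?_, by simp [h4], by simp [h5]⟩
    · rw [show g * t * g⁻¹ * (g * t * g⁻¹) = g * (t * t) * g⁻¹ by group, h2, mul_one, mul_inv_cancel]
    · exact ((hC.mul_left (show Commute t a from h3)).mul_left hC.inv_left)
  · rintro ⟨h1, h2, h3, h4, h5⟩
    refine ⟨?_, ?_, ?_, g.injective (by simpa using h4), g.injective (by simpa using h5)⟩
    · have := G.mul_mem (G.mul_mem (G.inv_mem hg) h1) hg
      simpa [mul_assoc] using this
    · calc t * t = g⁻¹ * (g * t * g⁻¹ * (g * t * g⁻¹)) * g := by group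
        _ = 1 := by rw [h2]; group
    · have := (hC.inv_left.mul_left (show Commute (g * t * g⁻¹) a from h3)).mul_left hC
      simp only [mul_assoc, inv_mul_cancel_left, inv_mul_cancel, mul_one] at this
      exact this

theorem card_fixed_le (S : Setup G) {a : Perm α} (ha : a ∈ G) (ha2 : a * a = 1) (hne : a ≠ 1) :
    #(univ.filter fun x => a x = x) ≤ 3 := by
  by_contra hlt
  obtain ⟨t, ht, hc⟩ := Finset.exists_subset_card_eq (s := univ.filter fun x => a x = x) (n := 4)
    (by omega)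
  obtain ⟨p, q, r, s, h1, h2, h3, h4, h5, h6, rfl⟩ := Finset.card_eq_four.1 hc
  have hm : ∀ z ∈ ({p, q, r, s} : Finset α), a z = z := fun z hz => (mem_filter.1 (ht hz)).2
  exact hne (S.eq_one ⟨h1, h2, h3, h4, h5, h6⟩ ha ha2 (hm p (by simp)) (hm q (by simp))
    (hm r (by simp)) (hm s (by simp)))

end CfsgLib.Perm.FourOdd
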