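import Mathlib
import Cfsg.Agent.Lib.Perm.FourOdd.Count

/-!
# An involution with two fixed points moves four or eight points
-/

set_option autoImplicit false

open Equiv Finset

namespace CfsgLib.Perm.FourOdd

variable {α : Type*} [Fintype α] [DecidableEq α] {G : Subgroup (Perm α)}

open scoped Classical in
/-- `4 |U| = |Q| B` and `(m - 4) |U| = |Q| A`, combined. -/
theorem support_sub_four_mul (S : Setup G) {a : Perm α} (ha : a ∈ G) (ha2 : a * a = 1) {p q : α}
    (h : Quad a p q) :
    (#a.support - 4) * Nat.card (liftSet G a p q (a p) q) =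
        4 * Nat.card {t // t ∈ liftSet G a p q q p ∧ IsU G a t} := by
  set U : Finset (Perm α) := univ.filter (IsU G a) with hU
  set Q : Finset (α × α) := univ.filter (fun x => Quad a x.1 x.2) with hQ
  have hqp : ∀ {t : Perm α}, t ∈ liftSet G a p q q p → t p = q := fun ht => ht.2.2.2.1
  -- first count
  have c1 : 4 * #U = #Q * Nat.card (liftSet G a p q (a p) q) := by
    have key := Finset.sum_card_bipartiteAbove_eq_sum_card_bipartiteBelow
      (r := fun (t : Perm α) (x : α × α) => t x.1 = a x.1 ∧ t x.2 = x.2) (s := U) (t := Q)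
    have habove : ∀ t ∈ U, #(Q.bipartiteAbove
        (fun (t : Perm α) (x : α × α) => t x.1 = a x.1 ∧ t x.2 = x.2) t) = 4 := by
      intro t ht
      have hUt : IsU G a t := (mem_filter.1 ht).2
      obtain ⟨j, hj, ej⟩ := hUt.hfix
      obtain ⟨i, hi, ei⟩ := hUt.hflip
      have hset : Q.bipartiteAbove (fun (t : Perm α) (x : α × α) => t x.1 = a x.1 ∧ t x.2 = x.2) t =
          ({i, a i} : Finset α) ×ˢ ({j, a j} : Finset α) := by
        ext ⟨x, y⟩
        simp only [hQ, Finset.mem_bipartiteAbove, mem_filter, mem_univ, true_and, mem_product,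
          mem_insert, mem_singleton]
        constructor
        · rintro ⟨hxy, hx, hy⟩
          exact ⟨hUt.flip_eq S ha ha2 hi ei hxy.mp hx, hUt.fix_eq S ha2 hj ej hxy.mq hy⟩
        · rintro ⟨hx, hy⟩
          have hx' : a x ≠ x ∧ t x = a x := by
            rcases hx with rfl | rfl
            · exact ⟨hi, ei⟩
            · exact ⟨fun e => hi (a.injective e), by rw [comm_app hUt.comm, ei]⟩
          have hy' : a y ≠ y ∧ t y = y := by
            rcases hy with rfl | rfl
            · exact ⟨hj, ej⟩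
            · exact ⟨fun e => hj (a.injective e), by rw [comm_app hUt.comm, ej]⟩
          refine ⟨⟨hx'.1, hy'.1, ?_, ?_⟩, hx'.2, hy'.2⟩
          · rintro rfl
            exact hy'.1 (hx'.2.symm.trans hy'.2)
          · intro e
            apply hx'.1
            apply t.injective
            rw [← e, hy'.2, hx'.2, e]
      rw [hset, card_product, card_pair hi.symm, card_pair hj.symm]
    have hbelow : ∀ x ∈ Q, #(U.bipartiteBelow
        (fun (t : Perm α) (x : α × α) => t x.1 = a x.1 ∧ t x.2 = x.2) x) =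
        Nat.card (liftSet G a p q (a p) q) := by
      rintro ⟨x, y⟩ hxy
      have hxy' : Quad a x y := (mem_filter.1 hxy).2
      obtain ⟨g, hg, hc, e1, e2⟩ := S.trans_quad ha ha2 h hxy'
      rw [← card_liftSet_conj hg hc, comm_app hc, e1, e2, ← Nat.card_eq_finsetCard]
      refine Nat.card_congr (Equiv.subtypeEquivRight fun t => ?_)
      simp only [hU, Finset.mem_bipartiteBelow, mem_filter, mem_univ, true_and]
      constructor
      · rintro ⟨hUt, h1, h2⟩; exact ⟨hUt.mem, hUt.sq, hUt.comm, h1, h2⟩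
      · rintro ⟨h1, h2, h3, h4, h5⟩
        exact ⟨⟨h1, h2, h3, ⟨y, hxy'.mq, h5⟩, ⟨x, hxy'.mp, h4⟩⟩, h4, h5⟩
    rw [Finset.sum_congr rfl habove, Finset.sum_congr rfl hbelow, Finset.sum_const,
      Finset.sum_const, smul_eq_mul, smul_eq_mul] at key
    rw [← key, mul_comm]
  -- second count
  have c2 : (#a.support - 4) * #U = #Q * Nat.card {t // t ∈ liftSet G a p q q p ∧ IsU G a t} := by
    have key := Finset.sum_card_bipartiteAbove_eq_sum_card_bipartiteBelow
      (r := fun (t : Perm α) (x : α × α) => t x.1 = x.2) (s := U) (t := Q)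
    have habove : ∀ t ∈ U, #(Q.bipartiteAbove (fun (t : Perm α) (x : α × α) => t x.1 = x.2) t) =
        #a.support - 4 := by
      intro t ht
      have hUt : IsU G a t := (mem_filter.1 ht).2
      obtain ⟨j, hj, ej⟩ := hUt.hfix
      obtain ⟨i, hi, ei⟩ := hUt.hflip
      have hij : Distinct4 i (a i) j (a j) := by
        refine Quad.distinct ha2 ⟨hi, hj, ?_, ?_⟩
        · rintro rfl
          exact hi (ei.symm.trans ej)
        · intro e
          apply hi
          apply t.injective
          rw [← e, ej, ei, e]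
      have h4 : #({i, a i, j, a j} : Finset α) = 4 := by
        rw [card_insert_of_notMem, card_insert_of_notMem, card_pair hij.rs]
        · simp [hij.qr, hij.qs]
        · simp [hij.pq, hij.pr, hij.ps]
      have hsub : ({i, a i, j, a j} : Finset α) ⊆ a.support := by
        intro x hx
        simp only [mem_insert, mem_singleton] at hx
        rw [Perm.mem_support]
        rcases hx with rfl | rfl | rfl | rfl
        exacts [hi, fun e => hi (a.injective e), hj, fun e => hj (a.injective e)]
      have hset : Q.bipartiteAbove (fun (t : Perm α) (x : α × α) => t x.1 = x.2) t =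
          (a.support \ {i, a i, j, a j}).image (fun x => (x, t x)) := by
        ext ⟨x, y⟩
        simp only [hQ, Finset.mem_bipartiteAbove, mem_filter, mem_univ, true_and, mem_image,
          mem_sdiff, Perm.mem_support, mem_insert, mem_singleton, Prod.mk.injEq]
        constructor
        · rintro ⟨hxy, rfl⟩
          refine ⟨x, ⟨hxy.mp, fun hx => ?_⟩, rfl, rfl⟩
          rcases hx with rfl | rfl | rfl | rfl
          · exact hxy.ne' ei
          · exact hxy.ne' (by rw [comm_app hUt.comm, ei])
          · exact hxy.ne ej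
          · exact hxy.ne (by rw [comm_app hUt.comm, ej])
        · rintro ⟨x', ⟨hx, hnot⟩, rfl, rfl⟩
          refine ⟨⟨hx, ?_, ?_, ?_⟩, rfl⟩
          · rw [← comm_app hUt.comm]; exact fun e => hx (t.injective e)
          · intro e
            rcases hUt.fix_eq S ha2 hj ej hx e with rfl | rfl
            · exact hnot (Or.inr (Or.inr (Or.inl rfl)))
            · exact hnot (Or.inr (Or.inr (Or.inr rfl)))
          · intro e
            rcases hUt.flip_eq S ha ha2 hi ei hx e with rfl | rfl
            · exact hnot (Or.inl rfl)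
            · exact hnot (Or.inr (Or.inl rfl))
      rw [hset, card_image_of_injective _ (fun x y e => (congrArg Prod.fst e : _)),
        card_sdiff_of_subset hsub, h4]
    have hbelow : ∀ x ∈ Q, #(U.bipartiteBelow (fun (t : Perm α) (x : α × α) => t x.1 = x.2) x) =
        Nat.card {t // t ∈ liftSet G a p q q p ∧ IsU G a t} := by
      rintro ⟨x, y⟩ hxy
      have hxy' : Quad a x y := (mem_filter.1 hxy).2
      obtain ⟨g, hg, hc, e1, e2⟩ := S.trans_quad ha ha2 h hxy'
      rw [← Nat.card_eq_finsetCard]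
      refine (Nat.card_congr (Equiv.subtypeEquiv (MulAut.conj g).toEquiv fun t => ?_)).symm
      change _ ↔ g * t * g⁻¹ ∈ U.bipartiteBelow _ (x, y)
      simp only [hU, Finset.mem_bipartiteBelow, mem_filter, mem_univ, true_and]
      constructor
      · rintro ⟨ht, hUt⟩
        refine ⟨hUt.conj hg hc, ?_⟩
        rw [← e1, ← e2]
        simp [hqp ht]
      · rintro ⟨hUt, ht⟩
        have hU' : IsU G a t := by
          have := hUt.conj (g := g⁻¹) (G.inv_mem hg) (Commute.inv_left (show Commute g a from hc))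
          simpa [mul_assoc] using this
        have htp : t p = q := by
          apply g.injective
          rw [← e1, ← e2] at ht
          simpa using ht
        refine ⟨⟨hU'.mem, hU'.sq, hU'.comm, htp, ?_⟩, hU'⟩
        rw [← htp, app_app hU'.sq]
    rw [Finset.sum_congr rfl habove, Finset.sum_congr rfl hbelow, Finset.sum_const,
      Finset.sum_const, smul_eq_mul, smul_eq_mul] at key
    rw [← key, mul_comm]
  have hQpos : 0 < #Q := Finset.card_pos.2 ⟨(p, q), by simp [hQ, h]⟩
  refine Nat.eq_of_mul_eq_mul_left hQpos ?_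
  calc #Q * ((#a.support - 4) * Nat.card (liftSet G a p q (a p) q))
      = (#a.support - 4) * (4 * #U) := by rw [c1]; ring
    _ = 4 * ((#a.support - 4) * #U) := by ring
    _ = _ := by rw [c2]; ring

open scoped Classical in
theorem card_quadFinset {a : Perm α} (ha2 : a * a = 1) :
    Nat.card {x : α × α // Quad a x.1 x.2} = #a.support * (#a.support - 2) := by
  have hset : (univ.filter fun x : α × α => Quad a x.1 x.2) =
      a.support.biUnion (fun p => (a.support \ {p, a p}).image (fun q => (p, q))) := by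
    ext ⟨x, y⟩
    simp only [mem_filter, mem_univ, true_and, mem_biUnion, mem_image, mem_sdiff,
      Perm.mem_support, mem_insert, mem_singleton, Prod.mk.injEq]
    constructor
    · intro h; exact ⟨x, h.mp, y, ⟨h.mq, fun e => e.elim h.ne h.ne'⟩, rfl, rfl⟩
    · rintro ⟨x', hx, y', ⟨hy, hn⟩, rfl, rfl⟩
      exact ⟨hx, hy, fun e => hn (Or.inl e), fun e => hn (Or.inr e)⟩
  rw [Nat.card_eq_fintype_card, Fintype.card_subtype, hset, card_biUnion]
  · rw [Finset.sum_eq_card_nsmul (b := #a.support - 2), smul_eq_mul]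
    intro p hp
    rw [card_image_of_injective _ (fun x y e => (congrArg Prod.snd e : _)), card_sdiff_of_subset,
      card_pair (Perm.mem_support.1 hp).symm]
    intro x hx
    simp only [mem_insert, mem_singleton] at hx
    rcases hx with rfl | rfl
    · exact hp
    · exact Perm.mem_support.2 fun e => Perm.mem_support.1 hp (a.injective e)
  · intro x _ y _ hxy
    simp only [Function.onFun, Finset.disjoint_left, mem_image, not_exists, not_and]
    rintro z ⟨w, -, rfl⟩ w' - e
    exact hxy (congrArg Prod.fst e).symm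

/-- An involution with at least two fixed points moves exactly four points, or it fixes three
points and moves eight. -/
theorem support_cases (S : Setup G) {a : Perm α} (ha : a ∈ G) (ha2 : a * a = 1) {e₁ e₂ p q : α}
    (he₁ : a e₁ = e₁) (he₂ : a e₂ = e₂) (he : e₁ ≠ e₂) (h : Quad a p q) :
    #a.support = 4 ∨ (Fintype.card α = 11 ∧ #a.support = 8) := by
  have hne : a ≠ 1 := fun e => h.mp (by rw [e, Perm.one_apply])
  have hd := h.distinct ha2
  -- the number of fixed points
  set F : Finset α := univ.filter fun x => a x = x with hF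
  have hF2 : 2 ≤ #F := by
    have : ({e₁, e₂} : Finset α) ⊆ F := by
      intro x hx
      simp only [mem_insert, mem_singleton] at hx
      rcases hx with rfl | rfl <;> simp [hF, he₁, he₂]
    simpa [card_pair he] using card_le_card this
  have hF3 : #F ≤ 3 := card_fixed_le S ha ha2 hne
  have hn : #F + #a.support = Fintype.card α := by
    rw [← card_univ, ← Finset.card_filter_add_card_filter_not (s := univ) (fun x => a x = x)]
    congr 2
  have h4 : 4 ≤ #a.support := by
    have : ({p, a p, q, a q} : Finset α) ⊆ a.support := by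
      intro x hx
      simp only [mem_insert, mem_singleton] at hx
      rw [Perm.mem_support]
      rcases hx with rfl | rfl | rfl | rfl
      exacts [h.mp, fun e => h.mp (a.injective e), h.mq, fun e => h.mq (a.injective e)]
    refine le_trans (le_of_eq ?_) (card_le_card this)
    rw [card_insert_of_notMem, card_insert_of_notMem, card_pair hd.rs]
    · simp [hd.qr, hd.qs]
    · simp [hd.pq, hd.pr, hd.ps]
  -- lifts of the two permutations of the quadruple
  obtain ⟨u, hu⟩ := exists_lift S ha ha2 h
    (x := a p) (y := q) ⟨fun e => h.mp (a.injective e), h.mq, h.ne', by rw [app_app ha2]; exact h.ne⟩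
    (fun g hc e1 e2 => ⟨by rw [e1, comm_app hc, e1, app_app ha2], by rw [e2, e2]⟩)
  obtain ⟨v, hv⟩ := exists_lift S ha ha2 h (x := q) (y := p) (h.symm ha2)
    (fun g hc e1 e2 => ⟨by rw [e1, e2], by rw [e2, e1]⟩)
  have hB := card_liftSet_mul S ha2 h (by simp) (by simp) hu
  have hA := card_liftSet_mul S ha2 h (by simp) (by simp) hv
  have hcount := support_sub_four_mul S ha ha2 h
  have hBpos : 0 < Nat.card (liftSet G a p q (a p) q) :=
    Nat.card_pos_iff.2 ⟨⟨⟨u, hu⟩⟩, inferInstance⟩
  by_cases hvU : IsU G a v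
  swap
  · left
    have hzero : Nat.card {t // t ∈ liftSet G a p q q p ∧ IsU G a t} = 0 := by
      rw [Nat.card_eq_zero]
      refine Or.inl ⟨fun t => ?_⟩
      obtain ⟨hvG, v2, vc, vp, vq⟩ := hv
      obtain ⟨t, ⟨htG, t2, tc, tp, tq⟩, hUt⟩ := t
      obtain ⟨k, hk, hconj, hkc⟩ := S.conj_involution hd htG hvG t2 v2
        (tp.trans vp.symm) (by rw [comm_app vc, comm_app tc, vp, tp]) (tq.trans vq.symm)
        (by rw [comm_app vc, comm_app tc, vq, tq])
      exact hvU (hconj ▸ hUt.conj hk.1 (hkc a tc vc))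
    rw [hzero, mul_zero, mul_eq_zero] at hcount
    omega
  right
  have hAeq : Nat.card {t // t ∈ liftSet G a p q q p ∧ IsU G a t} =
      Nat.card (liftSet G a p q q p) := by
    refine Nat.card_congr (Equiv.subtypeEquivRight fun t => and_iff_left_of_imp fun ht => ?_)
    obtain ⟨hvG, v2, vc, vp, vq⟩ := hv
    obtain ⟨htG, t2, tc, tp, tq⟩ := ht
    obtain ⟨k, hk, hconj, hkc⟩ := S.conj_involution hd hvG htG v2 t2
      (vp.trans tp.symm) (by rw [comm_app vc, comm_app tc, vp, tp]) (vq.trans tq.symm)
      (by rw [comm_app vc, comm_app tc, vq, tq])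
    exact hconj ▸ hvU.conj hk.1 (hkc a vc tc)
  rw [hAeq] at hcount
  obtain ⟨huG, u2, uc, up, uq⟩ := hu
  obtain ⟨hvG, v2, vc, vp, vq⟩ := hv
  have uap : u (a p) = p := by rw [comm_app uc, up, app_app ha2]
  have uaq : u (a q) = a q := by rw [comm_app uc, uq]
  have vap : v (a p) = a q := by rw [comm_app vc, vp]
  have vaq : v (a q) = a p := by rw [comm_app vc, vq]
  set H := stab4 G p (a p) q (a q) with hH
  -- the stabiliser is normalised by the three involutions
  have hnorm : ∀ {t : Perm α}, t ∈ G → t * t = 1 → t p ∈ ({p, a p, q, a q} : Set α) →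
      t (a p) ∈ ({p, a p, q, a q} : Set α) → t q ∈ ({p, a p, q, a q} : Set α) →
      t (a q) ∈ ({p, a p, q, a q} : Set α) → ∀ x ∈ H, t * x * t⁻¹ ∈ H := by
    intro t ht t2 h1 h2 h3 h4 x hx
    have := conj_mem_stab4 ht h1 h2 h3 h4 hx
    rwa [inv_eq_of_mul_eq_one_right t2] at this ⊢
  have hHodd := S.odd hd
  have na := hnorm ha ha2 (by simp) (by simp [app_app ha2]) (by simp) (by simp [app_app ha2])
  have nu := hnorm huG u2 (by simp [up]) (by simp [uap]) (by simp [uq]) (by simp [uaq])
  have nv := hnorm hvG v2 (by simp [vp]) (by simp [vap]) (by simp [vq]) (by simp [vaq])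
  have hBWu := card_mul_sq_eq ha2 u2 uc.symm hHodd na nu
  have hBWv := card_mul_sq_eq ha2 v2 vc.symm hHodd na nv
  -- conjugacies inside the stabiliser of the quadruple
  have hinvol : ∀ {g t : Perm α}, g ∈ G → t * t = 1 → g * t * g⁻¹ * (g * t * g⁻¹) = 1 := by
    intro g t _ t2
    rw [show g * t * g⁻¹ * (g * t * g⁻¹) = g * (t * t) * g⁻¹ by group, t2, mul_one, mul_inv_cancel]
  have inv_app : ∀ {g : Perm α} {x y : α}, g x = y → g.symm y = x := fun e => by
    rw [Equiv.symm_apply_eq]; exact e.symm
  have hcv : Nat.card ↥(H ⊓ Subgroup.centralizer {a}) = Nat.card ↥(H ⊓ Subgroup.centralizer {v}) := by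
    obtain ⟨g, hg, g1, g2, g3, g4⟩ := S.trans hd hd.perm₁
    obtain ⟨g', hg', hc, himg⟩ := S.adjust hd hg ha hvG ha2 v2
      (by simp [inv_app g1, g2, vp])
      (by simp [inv_app g3, g4, vap])
      (by simp [inv_app g2, app_app ha2, g1, vq])
      (by simp [inv_app g4, app_app ha2, g3, vaq])
    exact card_centralizer_conj hg' (by rw [himg p (by simp [g1]), g1]; simp)
      (by rw [himg (a p) (by simp [g2]), g2]; simp) (by rw [himg q (by simp [g3]), g3]; simp)
      (by rw [himg (a q) (by simp [g4]), g4]; simp) hc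
  have hcav : Nat.card ↥(H ⊓ Subgroup.centralizer {a}) =
      Nat.card ↥(H ⊓ Subgroup.centralizer {a * v}) := by
    obtain ⟨g, hg, g1, g2, g3, g4⟩ := S.trans hd hd.perm₃
    obtain ⟨g', hg', hc, himg⟩ := S.adjust hd hg ha (G.mul_mem ha hvG) ha2
      (mul_self_comm ha2 v2 vc)
      (by simp [inv_app g1, g2, vp])
      (by simp [inv_app g4, app_app ha2, g3, vap])
      (by simp [inv_app g3, g4, vq])
      (by simp [inv_app g2, app_app ha2, g1, vaq])
    exact card_centralizer_conj hg' (by rw [himg p (by simp [g1]), g1]; simp)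
      (by rw [himg (a p) (by simp [g2]), g2]; simp) (by rw [himg q (by simp [g3]), g3]; simp)
      (by rw [himg (a q) (by simp [g4]), g4]; simp) hc
  have hfau : Nat.card ↥(H ⊓ Subgroup.centralizer {u}) =
      Nat.card ↥(H ⊓ Subgroup.centralizer {a * u}) := by
    obtain ⟨g, hg, g1, g2, g3, g4⟩ := S.trans hd hd.perm₂
    obtain ⟨g', hg', hc, himg⟩ := S.adjust hd hg huG (G.mul_mem ha huG) u2
      (mul_self_comm ha2 u2 uc)
      (by simp [inv_app g3, uq, g3, up, app_app ha2])
      (by simp [inv_app g4, uaq, g4, uap])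
      (by simp [inv_app g1, up, g2, uq])
      (by simp [inv_app g2, uap, g1, uaq, app_app ha2])
    exact card_centralizer_conj hg' (by rw [himg p (by simp [g1]), g1]; simp)
      (by rw [himg (a p) (by simp [g2]), g2]; simp) (by rw [himg q (by simp [g3]), g3]; simp)
      (by rw [himg (a q) (by simp [g4]), g4]; simp) hc
  -- the centraliser of `a` on pairs of two-cycles
  set Z := G ⊓ Subgroup.centralizer {a} with hZ
  have hmemZ : ∀ {k : Perm α}, k ∈ Z ↔ k ∈ G ∧ k * a = a * k := fun {k} => by
    rw [hZ, Subgroup.mem_inf, Subgroup.mem_centralizer_singleton_iff]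
  have hZ1 : #a.support * (#a.support - 2) * Nat.card ↥(H ⊓ Subgroup.centralizer {a}) =
      Nat.card Z := by
    rw [← card_quadFinset ha2]
    refine card_orbit_mul (MulAction.toPermHom (Perm α) (α × α)) Z _ (p, q)
      {x | Quad a x.1 x.2} (fun x => ⟨fun hx => ?_, ?_⟩) (fun k => ?_)
    · obtain ⟨g, hg, hc, g1, g2⟩ := S.trans_quad ha ha2 h hx
      exact ⟨g, hmemZ.2 ⟨hg, hc⟩, by ext <;> simp [g1, g2]⟩
    · rintro ⟨k, hk, rfl⟩
      have hc := (hmemZ.1 hk).2
      change Quad a (k p) (k q)
      refine ⟨?_, ?_, fun e => h.ne (k.injective e), fun e => h.ne' ?_⟩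
      · rw [← comm_app hc]; exact fun e => h.mp (k.injective e)
      · rw [← comm_app hc]; exact fun e => h.mq (k.injective e)
      · exact k.injective (e.trans (comm_app hc p).symm)
    · rw [Subgroup.mem_inf, Subgroup.mem_centralizer_singleton_iff, hH, mem_stab4, hmemZ]
      change _ ↔ (_ ∧ (k p, k q) = (p, q))
      rw [Prod.mk.injEq]
      constructor
      · rintro ⟨⟨h1, h2, -, h4, -⟩, h6⟩; exact ⟨⟨h1, h6⟩, h2, h4⟩
      · rintro ⟨⟨h1, h6⟩, h2, h4⟩
        exact ⟨⟨h1, h2, by rw [comm_app h6, h2], h4, by rw [comm_app h6, h4]⟩, h6⟩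
  have hne1 : ∀ {x : α}, a x = x → p ≠ x := fun hx e => h.mp (e ▸ hx)
  have hne2 : ∀ {x : α}, a x = x → a p ≠ x := fun hx e => h.mp (a.injective (by rw [e, hx]))
  have hd' : Distinct4 p (a p) e₁ e₂ :=
    ⟨hd.pq, hne1 he₁, hne1 he₂, hne2 he₁, hne2 he₂, he⟩
  have hZ2 : #F.offDiag * #a.support * Nat.card ↥(H ⊓ Subgroup.centralizer {u}) = Nat.card Z := by
    obtain ⟨g, hg, g1, g2, g3, g4⟩ := S.trans hd hd'
    obtain ⟨g', hg', hc, himg⟩ := S.adjust hd' hg huG ha u2 ha2
      (by simp [inv_app g1, up, g2])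
      (by simp [inv_app g2, uap, g1, app_app ha2])
      (by simp [inv_app g3, uq, g3, he₁])
      (by simp [inv_app g4, uaq, g4, he₂])
    have i1 : g' p = p := by rw [himg p (by simp [g1]), g1]
    have i2 : g' (a p) = a p := by rw [himg (a p) (by simp [g2]), g2]
    have i3 : g' q = e₁ := by rw [himg q (by simp [g3]), g3]
    have i4 : g' (a q) = e₂ := by rw [himg (a q) (by simp [g4]), g4]
    have hL : Nat.card ↥(H ⊓ Subgroup.centralizer {u}) =
        Nat.card ↥((H ⊓ Subgroup.centralizer {u}).map (MulAut.conj g').toMonoidHom) :=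
      Nat.card_congr (Subgroup.equivMapOfInjective _ _ (MulAut.conj g').injective).toEquiv
    rw [hL, show #F.offDiag * #a.support = Nat.card (↑(F.offDiag ×ˢ a.support) : Set ((α × α) × α))
      by simp [card_product]]
    refine card_orbit_mul (MulAction.toPermHom (Perm α) ((α × α) × α)) Z _ ((e₁, e₂), p) _
      (fun x => ⟨fun hx => ?_, ?_⟩) (fun k => ?_)
    · obtain ⟨⟨x, y⟩, z⟩ := x
      simp only [mem_coe, mem_product, mem_offDiag, hF, mem_filter, mem_univ, true_and,
        Perm.mem_support] at hx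
      obtain ⟨⟨hx, hy, hxy⟩, hz⟩ := hx
      have hdx : Distinct4 z (a z) x y :=
        ⟨fun e => hz e.symm, fun e => hz (e ▸ hx), fun e => hz (e ▸ hy),
          fun e => hz (a.injective (by rw [e, hx])), fun e => hz (a.injective (by rw [e, hy])), hxy⟩
      obtain ⟨k, hk, k1, k2, k3, k4⟩ := S.trans hd' hdx
      obtain ⟨k', hk', hkc, kimg⟩ := S.adjust hdx hk ha ha ha2 ha2
        (by simp [inv_app k1, k2]) (by simp [inv_app k2, app_app ha2, k1])
        (by simp [inv_app k3, he₁, k3, hx]) (by simp [inv_app k4, he₂, k4, hy])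
      refine ⟨k', hmemZ.2 ⟨hk', ?_⟩, ?_⟩
      · calc k' * a = k' * a * k'⁻¹ * k' := by group
          _ = a * k' := by rw [hkc]
      · change ((k' e₁, k' e₂), k' p) = _
        rw [kimg e₁ (by simp [k3]), kimg e₂ (by simp [k4]), kimg p (by simp [k1]), k3, k4, k1]
    · rintro ⟨k, hk, rfl⟩
      have hkc := (hmemZ.1 hk).2
      change ((k e₁, k e₂), k p) ∈ _
      simp only [mem_coe, mem_product, mem_offDiag, hF, mem_filter, mem_univ, true_and,
        Perm.mem_support, ← comm_app hkc, he₁, he₂, EmbeddingLike.apply_eq_iff_eq]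
      exact ⟨fun e => he (k.injective e), fun e => h.mp (k.injective e)⟩
    · rw [hmemZ]
      change _ ↔ (_ ∧ ((k e₁, k e₂), k p) = ((e₁, e₂), p))
      rw [Prod.mk.injEq, Prod.mk.injEq]
      have hfx : ∀ {x y : α}, g' x = y → ∀ f : Perm α, (f x = x ↔ (g' * f * g'⁻¹) y = y) := by
        intro x y e f
        simp [inv_app e, ← e]
      constructor
      · rintro ⟨f, hf, rfl⟩
        obtain ⟨⟨hfG, f1, f2, f3, f4⟩, hfu⟩ := hf
        have hfu' : f * u = u * f := Subgroup.mem_centralizer_singleton_iff.1 hfu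
        change (_ ∧ g' * f * g'⁻¹ * a = a * (g' * f * g'⁻¹)) ∧ _
        refine ⟨⟨G.mul_mem (G.mul_mem hg' hfG) (G.inv_mem hg'), ?_⟩,
          ⟨(hfx i3 f).1 f3, (hfx i4 f).1 f4⟩, (hfx i1 f).1 f1⟩
        rw [← hc]
        calc g' * f * g'⁻¹ * (g' * u * g'⁻¹) = g' * (f * u) * g'⁻¹ := by group
          _ = _ := by rw [hfu']; group
      · rintro ⟨⟨hkG, hkc⟩, ⟨k1, k2⟩, k3⟩
        have hk4 : k (a p) = a p := by rw [comm_app hkc, k3]
        have e : g' * (g'⁻¹ * k * g') * g'⁻¹ = k := by group
        refine ⟨g'⁻¹ * k * g', ⟨⟨G.mul_mem (G.mul_mem (G.inv_mem hg') hkG) hg', ?_, ?_, ?_, ?_⟩,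
          Subgroup.mem_centralizer_singleton_iff.2 ?_⟩, e⟩
        · exact (hfx i1 _).2 (by rw [e]; exact k3)
        · exact (hfx i2 _).2 (by rw [e]; exact hk4)
        · exact (hfx i3 _).2 (by rw [e]; exact k1)
        · exact (hfx i4 _).2 (by rw [e]; exact k2)
        · rw [← hc] at hkc
          calc g'⁻¹ * k * g' * u = g'⁻¹ * (k * (g' * u * g'⁻¹)) * g' := by group
            _ = g'⁻¹ * (g' * u * g'⁻¹ * k) * g' := by rw [hkc]
            _ = _ := by group
  -- arithmetic
  rw [← hcv, ← hcav] at hBWv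
  rw [← hfau] at hBWu
  set c := Nat.card ↥(H ⊓ Subgroup.centralizer {a})
  set f := Nat.card ↥(H ⊓ Subgroup.centralizer {u})
  set d := Nat.card ↥(H ⊓ Subgroup.centralizer {a} ⊓ Subgroup.centralizer {v})
  set e := Nat.card ↥(H ⊓ Subgroup.centralizer {a} ⊓ Subgroup.centralizer {u})
  set A := Nat.card (liftSet G a p q q p)
  set B := Nat.card (liftSet G a p q (a p) q)
  have hc0 : 0 < c := Nat.card_pos
  have hf0 : 0 < f := Nat.card_pos
  have hd0 : 0 < d := Nat.card_pos
  have hH0 : 0 < Nat.card H := Nat.card_pos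
  have hdf : d * f = e * c := by
    refine Nat.pow_left_injective (n := 2) two_ne_zero (Nat.eq_of_mul_eq_mul_left hH0 ?_)
    calc Nat.card H * (d * f) ^ 2 = Nat.card H * d ^ 2 * (f * f) := by ring
      _ = c * c * c * (f * f) := by rw [hBWv]
      _ = (c * f * f) * (c * c) := by ring
      _ = Nat.card H * e ^ 2 * (c * c) := by rw [hBWu]
      _ = _ := by ring
  set m := #a.support with hm
  have E1 : (m - 4) * d = 4 * e := by
    refine Nat.eq_of_mul_eq_mul_left hc0 ?_
    calc c * ((m - 4) * d) = (m - 4) * (B * e) * d := by rw [hB]; ring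
      _ = ((m - 4) * B) * (e * d) := by ring
      _ = 4 * (A * d) * e := by rw [hcount]; ring
      _ = c * (4 * e) := by rw [hA]; ring
  have E2 : d * (m - 2) = e * #F.offDiag := by
    refine Nat.eq_of_mul_eq_mul_left (Nat.mul_pos hf0 (by omega : 0 < m)) ?_
    calc f * m * (d * (m - 2)) = (d * f) * (m * (m - 2)) := by ring
      _ = e * (m * (m - 2) * c) := by rw [hdf]; ring
      _ = e * (#F.offDiag * m * f) := by rw [hZ1, hZ2]
      _ = _ := by ring
  have E3 : (m - 4) * #F.offDiag = 4 * (m - 2) := by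
    refine Nat.eq_of_mul_eq_mul_left hd0 ?_
    calc d * ((m - 4) * #F.offDiag) = (m - 4) * d * #F.offDiag := by ring
      _ = 4 * (e * #F.offDiag) := by rw [E1]; ring
      _ = d * (4 * (m - 2)) := by rw [← E2]; ring
  rw [offDiag_card] at E3
  rcases (show #F = 2 ∨ #F = 3 by omega) with hFc | hFc <;> rw [hFc] at E3 hn <;> omega

end CfsgLib.Perm.FourOdd
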