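import Mathlib
import Cfsg.Agent.Lib.Perm.FourOdd.Moved

/-!
# Four-transitive groups with a four-point stabiliser of odd order
-/

set_option autoImplicit false

open Equiv Finset

namespace CfsgLib.Perm.FourOdd

variable {α : Type*} [Fintype α] [DecidableEq α] {G : Subgroup (Perm α)}

theorem setup_of_embedding (hG : MulAction.IsMultiplyPretransitive G α 4) (x : Fin 4 ↪ α)
    (hodd : Odd (Nat.card (MulAction.stabilizer G x))) : Setup G := by
  have emb : ∀ {p q r s : α}, Distinct4 p q r s → ∃ y : Fin 4 ↪ α,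
      y 0 = p ∧ y 1 = q ∧ y 2 = r ∧ y 3 = s := by
    intro p q r s h
    refine ⟨⟨![p, q, r, s], ?_⟩, rfl, rfl, rfl, rfl⟩
    intro i j hij
    fin_cases i <;> fin_cases j <;> first
      | rfl
      | exact absurd hij (by simp [h.pq, h.pr, h.ps, h.qr, h.qs, h.rs, h.pq.symm, h.pr.symm,
          h.ps.symm, h.qr.symm, h.qs.symm, h.rs.symm])
  refine ⟨fun {p q r s p' q' r' s'} h h' => ?_, fun {p q r s} h => ?_⟩
  · obtain ⟨y, y0, y1, y2, y3⟩ := emb h
    obtain ⟨z, z0, z1, z2, z3⟩ := emb h'
    obtain ⟨g, hg⟩ := MulAction.exists_smul_eq G y z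
    have e : ∀ i, (g : Perm α) (y i) = z i := fun i => by rw [← hg]; rfl
    exact ⟨g, g.2, by rw [← y0, ← z0, e], by rw [← y1, ← z1, e], by rw [← y2, ← z2, e],
      by rw [← y3, ← z3, e]⟩
  · obtain ⟨y, y0, y1, y2, y3⟩ := emb h
    obtain ⟨g, hg⟩ := MulAction.exists_smul_eq G x y
    have e1 : Nat.card ↥(stab4 G p q r s) = Nat.card (MulAction.stabilizer G y) := by
      refine Nat.card_congr
        { toFun := fun k => ⟨⟨k.1, k.2.1⟩, ?_⟩
          invFun := fun k => ⟨(k.1 : Perm α), k.1.2, ?_⟩
          left_inv := fun k => rfl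
          right_inv := fun k => rfl }
      · obtain ⟨-, k1, k2, k3, k4⟩ := k.2
        rw [MulAction.mem_stabilizer_iff]
        refine Function.Embedding.ext fun i => ?_
        change (k : Perm α) (y i) = y i
        fin_cases i
        · simpa [y0] using k1
        · simpa [y1] using k2
        · simpa [y2] using k3
        · simpa [y3] using k4
      · have e : ∀ i, (k.1 : Perm α) (y i) = y i := fun i =>
          congrArg (fun f : Fin 4 ↪ α => f i) k.2
        exact ⟨y0 ▸ e 0, y1 ▸ e 1, y2 ▸ e 2, y3 ▸ e 3⟩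
    rw [e1, ← hg, Nat.card_congr (Equiv.subtypeEquiv (p := fun k => k ∈ MulAction.stabilizer G (g • x))
      (q := fun k => k ∈ MulAction.stabilizer G x) (MulAut.conj g⁻¹).toEquiv fun k => ?_)]
    · exact hodd
    · change k • g • x = g • x ↔ (g⁻¹ * k * g⁻¹⁻¹) • x = x
      have app : ∀ (u : G) (z : Fin 4 ↪ α) (i : Fin 4), (u • z) i = (u : Perm α) (z i) :=
        fun u z i => rfl
      constructor <;> intro hk <;> refine Function.Embedding.ext fun i => ?_ <;>
        have e := congrArg (fun f : Fin 4 ↪ α => f i) hk <;>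
        simp only [app, Subgroup.coe_mul, Subgroup.coe_inv, inv_inv, Perm.mul_apply] at e ⊢
      · rw [e, Perm.inv_def, symm_apply_apply]
      · rw [Perm.inv_def, Equiv.symm_apply_eq] at e
        exact e

/-- With a three-cycle the group is the alternating group, of degree at most seven. -/
theorem eq_alternating_of_threeCycle (S : Setup G) (hG : MulAction.IsMultiplyPretransitive G α 4)
    (h6 : 6 ≤ Fintype.card α) {g : Perm α} (hg : g ∈ G) (h3 : g.IsThreeCycle) :
    G = alternatingGroup α ∧ Fintype.card α < 8 := by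
  haveI := hG
  have h2 : MulAction.IsMultiplyPretransitive G α 2 :=
    MulAction.isMultiplyPretransitive_of_le (n := 4) (by norm_num)
      (by rw [Nat.card_eq_fintype_card]; omega)
  have hle : alternatingGroup α ≤ G :=
    Perm.alternatingGroup_le_of_isPreprimitive_of_isThreeCycle_mem
      (MulAction.isPreprimitive_of_is_two_pretransitive h2) h3 hg
  haveI : Nontrivial α := Fintype.one_lt_card_iff_nontrivial.1 (by omega)
  let f : Fin (Fintype.card α) ≃ α := (Fintype.equivFin α).symm
  let P : ∀ i : ℕ, i < Fintype.card α → α := fun i hi => f ⟨i, hi⟩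
  have hne : ∀ i j hi hj, i ≠ j → P i hi ≠ P j hj := fun i j hi hj hij e =>
    hij (congrArg Fin.val (f.injective e))
  have hd : Distinct4 (P 0 (by omega)) (P 1 (by omega)) (P 2 (by omega)) (P 3 (by omega)) :=
    ⟨hne _ _ _ _ (by norm_num), hne _ _ _ _ (by norm_num), hne _ _ _ _ (by norm_num),
      hne _ _ _ _ (by norm_num), hne _ _ _ _ (by norm_num), hne _ _ _ _ (by norm_num)⟩
  have hsw : ∀ i hi, i < 4 → swap (P 4 (by omega)) (P 5 (by omega)) (P i hi) = P i hi :=
    fun i hi h => swap_apply_of_ne_of_ne (hne _ _ _ _ (by omega)) (hne _ _ _ _ (by omega))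
  have h45 : swap (P 4 (by omega)) (P 5 (by omega)) ≠ 1 := by
    rw [Ne, Perm.one_def, swap_eq_refl_iff]
    exact hne _ _ _ _ (by norm_num)
  have hne_top : G ≠ ⊤ := fun htop => h45 (S.eq_one hd (htop ▸ Subgroup.mem_top _)
    (swap_mul_self _ _) (hsw _ _ (by norm_num)) (hsw _ _ (by norm_num)) (hsw _ _ (by norm_num))
    (hsw _ _ (by norm_num)))
  constructor
  · refine Perm.eq_alternatingGroup_of_index_eq_two ?_
    have hdvd := Subgroup.index_dvd_of_le hle
    rw [alternatingGroup.index_eq_two] at hdvd
    rcases (Nat.dvd_prime Nat.prime_two).1 hdvd with h | h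
    · exact absurd (Subgroup.index_eq_one.1 h) hne_top
    · exact h
  · by_contra h8
    push Not at h8
    have hsw' : ∀ i hi, i < 4 → swap (P 6 (by omega)) (P 7 (by omega)) (P i hi) = P i hi :=
      fun i hi h => swap_apply_of_ne_of_ne (hne _ _ _ _ (by omega)) (hne _ _ _ _ (by omega))
    set t : Perm α := swap (P 4 (by omega)) (P 5 (by omega)) * swap (P 6 (by omega)) (P 7 (by omega))
      with ht
    have htA : t ∈ G := hle (by
      rw [Perm.mem_alternatingGroup, ht, map_mul, Perm.sign_swap (hne _ _ _ _ (by norm_num)),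
        Perm.sign_swap (hne _ _ _ _ (by norm_num))]
      rfl)
    have hcomm : Commute (swap (P 4 (by omega)) (P 5 (by omega)))
        (swap (P 6 (by omega)) (P 7 (by omega))) := by
      refine Perm.Disjoint.commute fun x => ?_
      rcases eq_or_ne x (P 4 (by omega)) with rfl | h4
      · exact Or.inr (swap_apply_of_ne_of_ne (hne _ _ _ _ (by norm_num)) (hne _ _ _ _ (by norm_num)))
      rcases eq_or_ne x (P 5 (by omega)) with rfl | h5
      · exact Or.inr (swap_apply_of_ne_of_ne (hne _ _ _ _ (by norm_num)) (hne _ _ _ _ (by norm_num)))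
      exact Or.inl (swap_apply_of_ne_of_ne h4 h5)
    have ht2 : t * t = 1 := by
      rw [ht, ← pow_two, hcomm.mul_pow, pow_two, pow_two, swap_mul_self, swap_mul_self, one_mul]
    have hfix : ∀ i hi, i < 4 → t (P i hi) = P i hi := fun i hi h => by
      rw [ht, Perm.mul_apply, hsw' i hi h, hsw i hi h]
    have h1 := S.eq_one hd htA ht2 (hfix _ _ (by norm_num)) (hfix _ _ (by norm_num))
      (hfix _ _ (by norm_num)) (hfix _ _ (by norm_num))
    have h2' : t (P 4 (by omega)) = P 5 (by omega) := by
      rw [ht, Perm.mul_apply, swap_apply_of_ne_of_ne (hne _ _ _ _ (by norm_num))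
        (hne _ _ _ _ (by norm_num)), swap_apply_left]
    rw [h1, Perm.one_apply] at h2'
    exact hne _ _ _ _ (by norm_num) h2'

omit [Fintype α] in
theorem fixed_of_pow_four {h : Perm α} {r : α} {N : ℕ} (hN : Odd N) (h1 : h ^ N = 1)
    (h4 : (h ^ 4) r = r) : h r = r := by
  obtain ⟨k, rfl⟩ := hN
  rcases Nat.even_or_odd' k with ⟨l, rfl | rfl⟩
  · have e : (h ^ (4 * l)) r = r := by
      rw [pow_mul]; exact Perm.pow_apply_eq_self_of_apply_eq_self h4 l
    calc h r = h ((h ^ (4 * l)) r) := by rw [e]
      _ = (h ^ (2 * (2 * l) + 1)) r := by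
          rw [show 2 * (2 * l) + 1 = 4 * l + 1 by ring, pow_succ', Perm.mul_apply]
      _ = r := by rw [h1, Perm.one_apply]
  · have e : (h ^ (4 * (l + 1))) r = r := by
      rw [pow_mul]; exact Perm.pow_apply_eq_self_of_apply_eq_self h4 _
    calc h r = (h * h ^ (2 * (2 * l + 1) + 1)) r := by rw [h1, mul_one]
      _ = (h ^ (4 * (l + 1))) r := by
          rw [← pow_succ', show 2 * (2 * l + 1) + 1 + 1 = 4 * (l + 1) by ring]
      _ = r := e

theorem distinct_of_quad_support {a : Perm α} (ha2 : a * a = 1) {p q : α} (h : Quad a p q) :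
    #({p, a p, q, a q} : Finset α) = 4 ∧ ({p, a p, q, a q} : Finset α) ⊆ a.support := by
  have hd := h.distinct ha2
  constructor
  · rw [card_insert_of_notMem, card_insert_of_notMem, card_pair hd.rs]
    · simp [hd.qr, hd.qs]
    · simp [hd.pq, hd.pr, hd.ps]
  · intro x hx
    simp only [mem_insert, mem_singleton] at hx
    rw [Perm.mem_support]
    rcases hx with rfl | rfl | rfl | rfl
    exacts [h.mp, fun e => h.mp (a.injective e), h.mq, fun e => h.mq (a.injective e)]

/-- The classification. -/
theorem classify (S : Setup G) (hG : MulAction.IsMultiplyPretransitive G α 4)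
    (h4 : 4 ≤ Fintype.card α) :
    ((Fintype.card α = 4 ∨ Fintype.card α = 5) ∧ G = ⊤) ∨
    ((Fintype.card α = 6 ∨ Fintype.card α = 7) ∧ G = alternatingGroup α) ∨
    (Fintype.card α = 11 ∧ Nat.card G = 7920) := by
  haveI := hG
  rcases Nat.lt_or_ge (Fintype.card α) 6 with h6 | h6
  · refine Or.inl ⟨by omega, Perm.eq_top_of_isMultiplyPretransitive ?_⟩
    exact MulAction.isMultiplyPretransitive_of_le (n := 4)
      (by rw [Nat.card_eq_fintype_card]; omega) (by rw [Nat.card_eq_fintype_card]; omega)
  right
  let f : Fin (Fintype.card α) ≃ α := (Fintype.equivFin α).symm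
  have hne : ∀ i j : ℕ, ∀ hi : i < Fintype.card α, ∀ hj : j < Fintype.card α,
      i ≠ j → f ⟨i, hi⟩ ≠ f ⟨j, hj⟩ := fun i j hi hj hij e =>
    hij (congrArg Fin.val (f.injective e))
  set x0 := f ⟨0, by omega⟩
  set x1 := f ⟨1, by omega⟩
  set x2 := f ⟨2, by omega⟩
  set x3 := f ⟨3, by omega⟩
  have hd0 : Distinct4 x0 x1 x2 x3 :=
    ⟨hne _ _ _ _ (by norm_num), hne _ _ _ _ (by norm_num), hne _ _ _ _ (by norm_num),
      hne _ _ _ _ (by norm_num), hne _ _ _ _ (by norm_num), hne _ _ _ _ (by norm_num)⟩
  obtain ⟨g, hg, g0, g1, g2, g3⟩ := S.trans hd0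
    ⟨hd0.pq.symm, hd0.qr, hd0.qs, hd0.pr, hd0.ps, hd0.rs⟩
  obtain ⟨a, ha, ha2, a0, a1, a2, a3, -⟩ := S.exists_involution hd0 hg (by rw [g0, g1])
    (by rw [g1, g0]) (by rw [g2, g2]) (by rw [g3, g3])
  rw [g0] at a0; rw [g1] at a1; rw [g2] at a2; rw [g3] at a3
  have hp : a x0 ≠ x0 := by rw [a0]; exact hd0.pq.symm
  -- a second two-cycle
  obtain ⟨q, hq⟩ : ∃ q, Quad a x0 q := by
    have hF := card_fixed_le S ha ha2 (fun e => hp (by rw [e, Perm.one_apply]))
    have hcard : #({x0, x1} : Finset α) + #(univ.filter fun x => a x = x) <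
        #(univ : Finset α) := by
      rw [card_pair hd0.pq, card_univ]; omega
    obtain ⟨q, -, hq⟩ := Finset.exists_mem_notMem_of_card_lt_card
      ((card_union_le ({x0, x1} : Finset α) (univ.filter fun x => a x = x)).trans_lt hcard)
    simp only [mem_union, mem_insert, mem_singleton, mem_filter, mem_univ, true_and] at hq
    push Not at hq
    exact ⟨q, hp, hq.2, hq.1.1, by rw [a0]; exact hq.1.2⟩
  obtain ⟨hQ4, hQsub⟩ := distinct_of_quad_support ha2 hq
  have hd := hq.distinct ha2
  rcases support_cases S ha ha2 a2 a3 hd0.rs hq with h4' | ⟨h11, h8⟩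
  · -- a double transposition
    left
    have hsupp : a.support = {x0, a x0, q, a q} :=
      (eq_of_subset_of_card_le hQsub (by rw [hQ4, h4'])).symm
    have hform : a = swap x0 (a x0) * swap q (a q) := by
      ext x
      rw [Perm.mul_apply]
      by_cases hx : x ∈ ({x0, a x0, q, a q} : Finset α)
      · simp only [mem_insert, mem_singleton] at hx
        rcases hx with rfl | rfl | rfl | rfl
        · rw [swap_apply_of_ne_of_ne hd.pr hd.ps, swap_apply_left]
        · rw [swap_apply_of_ne_of_ne hd.qr hd.qs, swap_apply_right, app_app ha2]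
        · rw [swap_apply_left, swap_apply_of_ne_of_ne hd.ps.symm hd.qs.symm]
        · rw [swap_apply_right, swap_apply_of_ne_of_ne hd.pr.symm hd.qr.symm, app_app ha2]
      · rw [← hsupp, Perm.notMem_support] at hx
        have key : ∀ z, a z ≠ z → x ≠ z := fun z hz e => hz (e ▸ hx)
        rw [hx, swap_apply_of_ne_of_ne (key q hq.mq) (key _ fun e => hq.mq (a.injective e)),
          swap_apply_of_ne_of_ne (key x0 hq.mp) (key _ fun e => hq.mp (a.injective e))]
    have hdt : ∀ {b₁ b₂ b₃ b₄ : α}, Distinct4 b₁ b₂ b₃ b₄ → swap b₁ b₂ * swap b₃ b₄ ∈ G := by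
      intro b₁ b₂ b₃ b₄ hb
      obtain ⟨k, hk, k1, k2, k3, k4⟩ := S.trans hd hb
      have := G.mul_mem (G.mul_mem hk ha) (G.inv_mem hk)
      rw [hform, show k * (swap x0 (a x0) * swap q (a q)) * k⁻¹ =
        k * swap x0 (a x0) * k⁻¹ * (k * swap q (a q) * k⁻¹) by group, ← swap_apply_apply,
        ← swap_apply_apply, k1, k2, k3, k4] at this
      exact this
    set x4 := f ⟨4, by omega⟩
    have hA := hdt hd0
    have hB := hdt (b₁ := x0) (b₂ := x1) (b₃ := x2) (b₄ := x4)
      ⟨hd0.pq, hd0.pr, hne _ _ _ _ (by norm_num), hd0.qr, hne _ _ _ _ (by norm_num),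
        hne _ _ _ _ (by norm_num)⟩
    have hc : swap x2 x3 * swap x2 x4 ∈ G := by
      have := G.mul_mem (G.inv_mem hA) hB
      rwa [mul_inv_rev, swap_inv, swap_inv, mul_assoc, swap_mul_self_mul] at this
    obtain ⟨hGA, h8⟩ := eq_alternating_of_threeCycle S hG h6 hc
      (Perm.isThreeCycle_swap_mul_swap_same hd0.rs (hne _ _ _ _ (by norm_num))
        (hne _ _ _ _ (by norm_num)))
    exact ⟨by omega, hGA⟩
  · -- degree eleven
    right
    refine ⟨h11, ?_⟩
    have no3 : ∀ k ∈ G, ¬ Perm.IsThreeCycle k := fun k hk h3 => by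
      obtain ⟨-, h⟩ := eq_alternating_of_threeCycle S hG h6 hk h3
      omega
    set H := stab4 G x0 (a x0) q (a q) with hH
    have hHodd : Odd (Nat.card H) := S.odd hd
    -- the centraliser of `a` in the stabiliser of the quadruple is trivial
    have hc1 : H ⊓ Subgroup.centralizer {a} = ⊥ := by
      rw [Subgroup.eq_bot_iff_forall]
      rintro h ⟨hhH, hhc⟩
      have hc : h * a = a * h := Subgroup.mem_centralizer_singleton_iff.1 hhc
      obtain ⟨hhG, e1, e2, e3, e4⟩ := hhH
      have hpow : h ^ Nat.card H = 1 :=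
        congrArg Subtype.val (pow_card_eq_one' (x := (⟨h, hhG, e1, e2, e3, e4⟩ : H)))
      set R := a.support \ {x0, a x0, q, a q} with hR
      have hRcard : #R = 4 := by rw [hR, card_sdiff_of_subset hQsub, hQ4, h8]
      have hfixQ : ∀ z ∈ ({x0, a x0, q, a q} : Finset α), h z = z := by
        intro z hz
        simp only [mem_insert, mem_singleton] at hz
        rcases hz with rfl | rfl | rfl | rfl <;> assumption
      have hhR : ∀ z ∈ R, h z ∈ R := by
        intro z hz
        rw [hR, mem_sdiff, Perm.mem_support] at hz ⊢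
        refine ⟨by rw [← comm_app hc]; exact fun e => hz.1 (h.injective e), fun e => hz.2 ?_⟩
        have := h.injective (hfixQ _ e)
        rwa [← this]
      have hfixR : ∀ r ∈ R, h r = r := by
        intro r hr
        refine fixed_of_pow_four hHodd hpow ?_
        have hsq : (h ^ 2) r = r ∨ (h ^ 2) r = a r → (h ^ 4) r = r := by
          intro e
          rw [show (4 : ℕ) = 2 + 2 by norm_num, pow_add, Perm.mul_apply]
          rcases e with e | e
          · rw [e, e]
          · rw [e, comm_app (show Commute (h ^ 2) a from (show Commute h a from hc).pow_left 2), e,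
              app_app ha2]
        apply hsq
        rw [pow_two, Perm.mul_apply]
        by_cases hs : h r = r ∨ h r = a r
        · rcases hs with e | e
          · left; rw [e, e]
          · left; rw [e, comm_app hc, e, app_app ha2]
        · push Not at hs
          have hmemR : ∀ z ∈ R, a z ∈ R := by
            intro z hz
            rw [hR, mem_sdiff, Perm.mem_support] at hz ⊢
            refine ⟨fun e => hz.1 (a.injective e), fun e => hz.2 ?_⟩
            simp only [mem_insert, mem_singleton] at e ⊢
            rcases e with e | e | e | e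
            · right; left; rw [← e, app_app ha2]
            · left; exact a.injective e
            · right; right; right; rw [← e, app_app ha2]
            · right; right; left; exact a.injective e
          have hmv : ∀ z ∈ R, a z ≠ z := fun z hz => Perm.mem_support.1 (mem_sdiff.1 hz).1
          have hs' := hhR r hr
          obtain ⟨hc4, -⟩ := distinct_of_quad_support ha2
            (⟨hmv r hr, hmv _ hs', hs.1, hs.2⟩ : Quad a r (h r))
          have hRe : R = {r, a r, h r, a (h r)} := by
            refine (eq_of_subset_of_card_le ?_ (by rw [hc4, hRcard])).symm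
            intro z hz
            simp only [mem_insert, mem_singleton] at hz
            rcases hz with rfl | rfl | rfl | rfl
            exacts [hr, hmemR _ hr, hs', hmemR _ hs']
          have h2 := hhR _ hs'
          rw [hRe] at h2
          simp only [mem_insert, mem_singleton] at h2
          rcases h2 with e | e | e | e
          · exact Or.inl e
          · exact Or.inr e
          · exact absurd (h.injective e) hs.1
          · rw [← comm_app hc] at e
            exact absurd (h.injective e) hs.2
      have hsub : h.support ⊆ univ.filter fun x => a x = x := by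
        intro z hz
        rw [mem_filter]
        refine ⟨mem_univ _, ?_⟩
        by_contra hz'
        apply Perm.mem_support.1 hz
        by_cases hzQ : z ∈ ({x0, a x0, q, a q} : Finset α)
        · exact hfixQ z hzQ
        · exact hfixR z (mem_sdiff.2 ⟨Perm.mem_support.2 hz', hzQ⟩)
      have hle3 : #h.support ≤ 3 := (card_le_card hsub).trans
        (card_fixed_le S ha ha2 (fun e => hp (by rw [e, Perm.one_apply])))
      by_contra hne1
      have h1' : #h.support ≠ 0 := fun e => hne1 (Perm.card_support_eq_zero.1 e)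
      have h1'' := Perm.card_support_ne_one h
      rcases (show #h.support = 2 ∨ #h.support = 3 by omega) with e | e
      · obtain ⟨u, w, huw, rfl⟩ := Perm.card_support_eq_two.1 e
        obtain ⟨k, hk⟩ := hHodd
        rw [hk, pow_succ, pow_mul, pow_two, swap_mul_self, one_pow, one_mul] at hpow
        exact hne1 hpow
      · exact no3 h hhG (card_support_eq_three_iff.1 e)
    -- hence the stabiliser is trivial
    obtain ⟨v, hvG, v2, vc, vp, vq⟩ := exists_lift S ha ha2 hq (x := q) (y := x0) (hq.symm ha2)
      (fun g _ e1 e2 => ⟨by rw [e1, e2], by rw [e2, e1]⟩)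
    have vap : v (a x0) = a q := by rw [comm_app vc, vp]
    have vaq : v (a q) = a x0 := by rw [comm_app vc, vq]
    have inv_app : ∀ {g : Perm α} {x y : α}, g x = y → g.symm y = x := fun e => by
      rw [Equiv.symm_apply_eq]; exact e.symm
    have hcv : Nat.card ↥(H ⊓ Subgroup.centralizer {a}) =
        Nat.card ↥(H ⊓ Subgroup.centralizer {v}) := by
      obtain ⟨k, hk, k1, k2, k3, k4⟩ := S.trans hd hd.perm₁
      obtain ⟨k', hk', hc, himg⟩ := S.adjust hd hk ha hvG ha2 v2
        (by simp [inv_app k1, k2, vp])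
        (by simp [inv_app k3, k4, vap])
        (by simp [inv_app k2, app_app ha2, k1, vq])
        (by simp [inv_app k4, app_app ha2, k3, vaq])
      exact card_centralizer_conj hk' (by rw [himg x0 (by simp [k1]), k1]; simp)
        (by rw [himg (a x0) (by simp [k2]), k2]; simp) (by rw [himg q (by simp [k3]), k3]; simp)
        (by rw [himg (a q) (by simp [k4]), k4]; simp) hc
    have hcav : Nat.card ↥(H ⊓ Subgroup.centralizer {a}) =
        Nat.card ↥(H ⊓ Subgroup.centralizer {a * v}) := by
      obtain ⟨k, hk, k1, k2, k3, k4⟩ := S.trans hd hd.perm₃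
      obtain ⟨k', hk', hc, himg⟩ := S.adjust hd hk ha (G.mul_mem ha hvG) ha2
        (mul_self_comm ha2 v2 vc)
        (by simp [inv_app k1, k2, vp])
        (by simp [inv_app k4, app_app ha2, k3, vap])
        (by simp [inv_app k3, k4, vq])
        (by simp [inv_app k2, app_app ha2, k1, vaq])
      exact card_centralizer_conj hk' (by rw [himg x0 (by simp [k1]), k1]; simp)
        (by rw [himg (a x0) (by simp [k2]), k2]; simp) (by rw [himg q (by simp [k3]), k3]; simp)
        (by rw [himg (a q) (by simp [k4]), k4]; simp) hc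
    have hnorm : ∀ {t : Perm α}, t ∈ G → t * t = 1 → t x0 ∈ ({x0, a x0, q, a q} : Set α) →
        t (a x0) ∈ ({x0, a x0, q, a q} : Set α) → t q ∈ ({x0, a x0, q, a q} : Set α) →
        t (a q) ∈ ({x0, a x0, q, a q} : Set α) → ∀ x ∈ H, t * x * t⁻¹ ∈ H := by
      intro t ht t2 h1 h2 h3 h4 x hx
      have := conj_mem_stab4 ht h1 h2 h3 h4 hx
      rwa [inv_eq_of_mul_eq_one_right t2] at this ⊢
    have hBW := card_mul_sq_eq ha2 v2 vc.symm hHodd
      (hnorm ha ha2 (by simp) (by simp [app_app ha2]) (by simp) (by simp [app_app ha2]))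
      (hnorm hvG v2 (by simp [vp]) (by simp [vap]) (by simp [vq]) (by simp [vaq]))
    rw [← hcv, ← hcav, hc1, Subgroup.card_bot, bot_inf_eq, Subgroup.card_bot, one_pow, mul_one,
      mul_one] at hBW
    -- count quadruples
    obtain ⟨y, hy⟩ : ∃ y : Fin 4 ↪ α, y 0 = x0 ∧ y 1 = a x0 ∧ y 2 = q ∧ y 3 = a q := by
      refine ⟨⟨![x0, a x0, q, a q], ?_⟩, rfl, rfl, rfl, rfl⟩
      intro i j hij
      fin_cases i <;> fin_cases j <;> first
        | rfl
        | exact absurd hij (by simp [hd.pq, hd.pr, hd.ps, hd.qr, hd.qs, hd.rs, hd.pq.symm,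
            hd.pr.symm, hd.ps.symm, hd.qr.symm, hd.qs.symm, hd.rs.symm])
    have hstab : MulAction.stabilizer G y = ⊥ := by
      rw [Subgroup.eq_bot_iff_forall]
      intro k hk
      have e : ∀ i, (k : Perm α) (y i) = y i := fun i =>
        congrArg (fun f : Fin 4 ↪ α => f i) hk
      have hkH : (k : Perm α) ∈ H :=
        ⟨k.2, hy.1 ▸ e 0, hy.2.1 ▸ e 1, hy.2.2.1 ▸ e 2, hy.2.2.2 ▸ e 3⟩
      rw [Subgroup.eq_bot_of_card_eq H hBW, Subgroup.mem_bot] at hkH
      exact Subtype.ext hkH
    have horb : MulAction.orbit G y = Set.univ := by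
      rw [Set.eq_univ_iff_forall]
      intro z
      rw [MulAction.mem_orbit_iff]
      exact MulAction.exists_smul_eq G y z
    have hcount : (MulAction.orbit G y).ncard = 7920 := by
      refine (congrArg Set.ncard horb).trans ?_
      rw [Set.ncard_univ, Nat.card_eq_fintype_card, Fintype.card_embedding_eq, Fintype.card_fin,
        h11]
      norm_num [Nat.descFactorial]
    rw [← Subgroup.card_mul_index (MulAction.stabilizer G y), hstab, Subgroup.card_bot, one_mul,
      ← hstab, MulAction.index_stabilizer]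
    exact hcount

end CfsgLib.Perm.FourOdd
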